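import Mathlib.AlgebraicGeometry.StructureSheaf
import Mathlib.AlgebraicGeometry.OpenImmersion

/-!
# Stalks on an affine chart
-/

set_option autoImplicit false
set_option backward.isDefEq.respectTransparency false

universe u

open CategoryTheory AlgebraicGeometry

namespace Groth.Agent.FMK16

/-- Stalks on an affine chart are localizations. -/
theorem nonempty_stalk_equiv {X : Scheme.{u}} {R : CommRingCat.{u}} (c : Spec R ⟶ X) [IsOpenImmersion c]
    (w : Spec R) : Nonempty (Localization.AtPrime w.asIdeal ≃+* X.presheaf.stalk (c w)) :=
  ⟨RingEquiv.trans (S := (Spec R).presheaf.stalk w)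
    (StructureSheaf.stalkIso R (w : PrimeSpectrum R)).toRingEquiv
    (asIso (c.stalkMap w)).commRingCatIsoToRingEquiv.symm⟩

end Groth.Agent.FMK16
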