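import Groth.Agent.FMK16.Hyper
import Groth.Agent.DCat.TensorAssoc
import Groth.Agent.Coherent.Serre.Uniform
import Groth.Agent.S2325
import Groth.Agent.Dual22Lib.PushPerf
import Groth.Agent.Dual22Lib.SupportAdj
import Groth.Agent.DCat.PullPerf
import Groth.Agent.DQCoh.BettiRank
import Groth.Agent.PicLib.PicGroup

/-!
# Hypercohomology of large twists
-/

set_option autoImplicit false
set_option backward.isDefEq.respectTransparency false
set_option backward.defeqAttrib.useBackward true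
set_option linter.style.haveILetI false

universe u

open CategoryTheory CategoryTheory.Limits CategoryTheory.Pretriangulated AlgebraicGeometry HomologicalComplex
open Groth.Agent.ModStalk Groth.Agent.DCat Groth.Agent.Coherent

attribute [local instance] HasDerivedCategory.standard
attribute [-instance] Int.instConditionallyCompleteLinearOrder

namespace Groth.Agent.FMK16

variable {Y : Scheme.{u}}

/-- A twist by an invertible module is the zero module only for the zero module. -/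
theorem isZero_of_isZero_tensor {M N : Y.Modules} (hN : PicF.IsInvertible N)
    (h : IsZero (CohB1.tensorMod M N)) : IsZero M := by
  obtain ⟨b, hb⟩ := PicLib.PicM.exists_mul_eq_one (PicLib.PicM.of hN)
  obtain ⟨N', hN', rfl⟩ := PicLib.PicM.exists_eq_of b
  rw [PicLib.PicM.of_mul, PicLib.PicM.of_eq_one_iff] at hb
  obtain ⟨e⟩ := hb
  have h' : IsZero (CohB1.tensorMod (CohB1.tensorMod M N) N') :=
    ((shT Y).flip.obj N').map_isZero h
  exact h'.of_iso ((AmpleLib.unitTensorIso M).symm ≪≫ AmpleLib.tensorComm _ _ ≪≫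
    AmpleLib.tensorIso (Iso.refl M) e.symm ≪≫ (TensorAssoc.assocIso M N N').symm)

/-- Above degree zero everything dies, so the hypercohomology in degree `i` is the sections of the `i`-th sheaf. -/
theorem isZero_of_van (T : DCoh.D Y) (a c i : ℤ) [T.IsGE a] [T.IsLE c]
    (hpos : ∀ (q : ℤ) (p : ℕ), 0 < p → Subsingleton (Coh.HH Y (DCoh.HD T q) p))
    (hgen : Curv2.IsGloballyGenerated (DCoh.HD T i)) :
    Van T i ↔ IsZero (DCoh.HD T i) := by
  obtain ⟨n, hn⟩ : ∃ n : ℕ, c ≤ a + n - 1 := ⟨(c + 1 - a).toNat, by omega⟩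
  haveI : T.IsLE (a + n - 1) := DerivedCategory.TStructure.t.isLE_of_le T c _ hn
  refine ⟨fun hvan => ?_, fun hz => van_of_HD n T a i ‹_› ‹_› fun q hq => ?_⟩
  rotate_left
  · rcases eq_or_lt_of_le hq with rfl | hlt
    · exact subsingleton_HH_of_isZero hz _
    · exact hpos q _ (by omega)
  let D := (DerivedCategory.TStructure.t.triangleLTGE i).obj T
  have hD : D ∈ distTriang _ := DerivedCategory.TStructure.t.triangleLTGE_distinguished i T
  haveI : D.obj₁.IsLE (i - 1) := DerivedCategory.TStructure.t.isLE_truncLT_obj T i (i - 1) (by omega)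
  haveI : D.obj₃.IsGE i := DerivedCategory.TStructure.t.isGE_truncGE_obj T i i le_rfl
  obtain ⟨a', ha'⟩ : ∃ a' : ℤ, a' = min a i - 1 := ⟨_, rfl⟩
  haveI : (D.obj₁⟦(1 : ℤ)⟧).IsGE a' := (DerivedCategory.isGE_iff _ a').2 fun q hq => by
    refine IsZero.of_iso ?_ (((DerivedCategory.homologyFunctor Y.Modules 0).shiftIso 1 q (q + 1) (by omega)).app D.obj₁)
    obtain ⟨e⟩ := nonempty_HD_truncLT T i (q + 1) (by omega)
    exact (DerivedCategory.isZero_of_isGE T a (q + 1) (by omega)).of_iso e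
  haveI : (D.obj₁⟦(1 : ℤ)⟧).IsLE (i - 2) :=
    DerivedCategory.TStructure.t.isLE_shift D.obj₁ (i - 1) 1 (i - 2) (by omega)
  have h₁ : Van (D.obj₁⟦(1 : ℤ)⟧) i := by
    refine van_of_HD (i - 1 - a').toNat _ a' i ‹_›
      (DerivedCategory.TStructure.t.isLE_of_le _ (i - 2) _ (by omega)) fun q hq => ?_
    let e₀ := ((DerivedCategory.homologyFunctor Y.Modules 0).shiftIso 1 q (q + 1) (by omega)).app D.obj₁
    rcases lt_or_ge (q + 1) i with hlt | hge
    · obtain ⟨e⟩ := nonempty_HD_truncLT T i (q + 1) hlt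
      haveI := hpos (q + 1) (i - q).toNat (by omega)
      exact subsingleton_HH_of_iso (e₀ ≪≫ e) _
    · exact subsingleton_HH_of_isZero
        ((DerivedCategory.isZero_of_isLE D.obj₁ (i - 1) (q + 1) (by omega)).of_iso e₀) _
  have h₃ : Van D.obj₃ i := Van.of_triangle (T := D.rotate) (rot_of_distTriang _ hD) hvan h₁
  let D' := (DerivedCategory.TStructure.t.triangleLTGE (i + 1)).obj D.obj₃
  have hD' : D' ∈ distTriang _ := DerivedCategory.TStructure.t.triangleLTGE_distinguished (i + 1) D.obj₃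
  haveI : D'.obj₃.IsGE (i + 1) := DerivedCategory.TStructure.t.isGE_truncGE_obj D.obj₃ (i + 1) (i + 1) le_rfl
  haveI : D'.obj₁.IsLE i := DerivedCategory.TStructure.t.isLE_truncLT_obj D.obj₃ (i + 1) i (by omega)
  haveI : D'.obj₁.IsGE i := (DerivedCategory.isGE_iff _ i).2 fun q hq => by
    obtain ⟨e⟩ := nonempty_HD_truncLT D.obj₃ (i + 1) q (by omega)
    exact (DerivedCategory.isZero_of_isGE D.obj₃ i q hq).of_iso e
  have h₄ : Van D'.obj₁ i := by
    refine Van.of_triangle (T := D'.invRotate) (inv_rot_of_distTriang _ hD') ?_ h₃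
    intro φ
    haveI : (DerivedCategory.Q.obj ((single Y.Modules (ComplexShape.up ℤ) i).obj (Coh.structureModule Y))).IsLE i :=
      DerivedCategory.TStructure.t.isLE_of_iso ((DerivedCategory.singleFunctorIsoCompQ Y.Modules i).app _) i
    haveI : (D'.invRotate.obj₁).IsGE (i + 2) :=
      DerivedCategory.TStructure.t.isGE_shift D'.obj₃ (i + 1) (-1) (i + 2) (by omega)
    exact DerivedCategory.TStructure.t.zero φ i (i + 2) (by omega)
  obtain ⟨M, ⟨eM⟩⟩ := DerivedCategory.exists_iso_singleFunctor_obj_of_isGE_of_isLE D'.obj₁ i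
  obtain ⟨e₁⟩ := nonempty_HD_truncLT D.obj₃ (i + 1) i (by omega)
  obtain ⟨e₂⟩ := nonempty_HD_truncGE T i
  let e : DCoh.HD T i ≅ M := e₂.symm ≪≫ e₁.symm ≪≫ (DerivedCategory.homologyFunctor Y.Modules i).mapIso eM ≪≫
    (DerivedCategory.singleFunctorCompHomologyFunctorIso Y.Modules i).app M
  have h₅ := h₄.of_iso eM
  have hhom : ∀ f : Coh.structureModule Y ⟶ DCoh.HD T i, f = 0 := fun f => by
    rw [← cancel_mono e.hom, zero_comp]
    apply (DerivedCategory.singleFunctor Y.Modules i).map_injective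
    rw [Functor.map_zero,
      ← cancel_epi ((DerivedCategory.singleFunctorIsoCompQ Y.Modules i).inv.app (Coh.structureModule Y)), comp_zero]
    exact h₅ _
  obtain ⟨ι, p, hp⟩ := hgen
  have hp0 : p = 0 := Cofan.IsColimit.hom_ext (SheafOfModules.isColimitFreeCofan ι) _ _ fun j => by
    rw [comp_zero]
    exact hhom _
  rw [IsZero.iff_id_eq_zero, ← cancel_epi p, hp0, zero_comp, zero_comp]

/-- Perfect complexes on Noetherian schemes are bounded with coherent cohomology. -/
theorem exists_bounded_coh {X : Scheme.{u}} [IsLocallyNoetherian X] [CompactSpace X] [QuasiSeparatedSpace X]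
    {G : DCoh.D X} (hG : DCoh.IsPerfect G) :
    ∃ a c : ℤ, G.IsGE a ∧ G.IsLE c ∧ DCoh.IsQCohD G ∧ DCoh.IsCohD G := by
  obtain ⟨a, ha⟩ := Dual22Lib.PushPerf.exists_isGE_perfect hG
  obtain ⟨c, hc⟩ := DQCoh.exists_isLE_perfect G hG
  have hq := Dual22Lib.PerfLift.isQCohD_perfect hG
  exact ⟨a, c, ha, hc, hq, fun i => DQCoh.isCoh_HD_of_psc G hq i (DQCoh.psc_of_perfect hG i) i le_rfl⟩

/-- For large twists hypercohomology vanishes exactly with the cohomology sheaf. -/
theorem exists_iff_twist (k : Type u) [Field k] (b : Y ⟶ Spec (CommRingCat.of k)) [IsProper b] [DCoh.HasRΓ Y]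
    (G : DCoh.D Y) (a c : ℤ) [G.IsGE a] [G.IsLE c] (hG : ∀ q, Coh.IsCoh (DCoh.HD G q))
    (L : Y.Modules) (hL : CohB1.IsAmple L) :
    ∃ n₀ : ℕ, ∀ n : ℕ, n₀ ≤ n →
      ∀ (i : ℤ) [DCoh.HasLTensorCx ((single Y.Modules (ComplexShape.up ℤ) 0).obj (CohB1.tensorPow L n))],
      IsZero ((DerivedCategory.homologyFunctor AddCommGrpCat.{u} i).obj ((DCoh.RΓ Y).obj
        ((DCoh.LTensorCx ((single Y.Modules (ComplexShape.up ℤ) 0).obj (CohB1.tensorPow L n))).obj G))) ↔
      IsZero (DCoh.HD G i) := by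
  letI : Y.Over (Spec (CommRingCat.of k)) := ⟨b⟩
  haveI : IsProper (Y ↘ Spec (CommRingCat.of k)) := ‹IsProper b›
  haveI : CompactSpace Y := QuasiCompact.compactSpace_of_compactSpace b
  haveI : IsLocallyNoetherian Y := LocallyOfFiniteType.isLocallyNoetherian b
  haveI : Y.IsSeparated := ⟨by rw [show terminal.from Y = b ≫ terminal.from _ from terminal.hom_ext _ _]; infer_instance⟩
  let q : ℕ → ℤ := fun j => a + j
  have hex : ∀ j : ℕ, ∃ n₀, Serre.VanishesFrom L n₀ (DCoh.HD G (q j)) := fun j =>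
    Serre.exists_vanishesFrom_of_ample k hL _ (hG _)
  have hex' : ∀ j : ℕ, ∃ n₀ : ℕ, ∀ n, n₀ ≤ n →
      Curv2.IsGloballyGenerated (CohB1.tensorMod (DCoh.HD G (q j)) (CohB1.tensorPow L n)) := fun j =>
    S2325.result Y L hL _ (hG _)
  choose m hm using hex'
  obtain ⟨N, hN⟩ := Serre.exists_vanishesFrom_range hex (c - a).toNat
  refine ⟨max N ((Finset.range ((c - a).toNat + 1)).sup m), fun n hn i _ => ?_⟩
  have hLi : PicF.IsInvertible (CohB1.tensorPow L n) :=
    AmpleLib.isInvertible_tensorPow (AmpleLib.isAmple_iff_affGlocus.1 hL).1 n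
  let N₀ := CohB1.tensorPow L n
  have hLf : FlatMod.IsFinLocFree N₀ := Coherent.isFinLocFree_of_invertible hLi
  let T := (DCoh.LTensorCx ((single Y.Modules (ComplexShape.up ℤ) 0).obj N₀)).obj G
  have eT : ∀ p, Nonempty (DCoh.HD T p ≅ CohB1.tensorMod (DCoh.HD G p) N₀) := fun p => by
    obtain ⟨e⟩ := nonempty_HD_tens G hLf p
    exact ⟨e ≪≫ (Coherent.CohBC.tensorRightBiIso N₀).app _ ≪≫ AmpleLib.tensorComm _ _⟩
  have hzero : ∀ p, (p < a ∨ c < p) → IsZero (DCoh.HD T p) := fun p hp => by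
    obtain ⟨e⟩ := eT p
    refine (((shT Y).flip.obj N₀).map_isZero ?_).of_iso e
    rcases hp with h | h
    · exact DerivedCategory.isZero_of_isGE G a p h
    · exact DerivedCategory.isZero_of_isLE G c p h
  haveI : T.IsGE a := (DerivedCategory.isGE_iff T a).2 fun p hp => hzero p (Or.inl hp)
  haveI : T.IsLE c := (DerivedCategory.isLE_iff T c).2 fun p hp => hzero p (Or.inr hp)
  have hidx : ∀ p, a ≤ p → p ≤ c → ∃ j, j ≤ (c - a).toNat ∧ q j = p := fun p h₁ h₂ =>
    ⟨(p - a).toNat, by omega, show a + ((p - a).toNat : ℤ) = p by omega⟩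
  have hpos : ∀ (p : ℤ) (d : ℕ), 0 < d → Subsingleton (Coh.HH Y (DCoh.HD T p) d) := fun p d hd => by
    by_cases hp : a ≤ p ∧ p ≤ c
    · obtain ⟨j, hj, rfl⟩ := hidx p hp.1 hp.2
      obtain ⟨e⟩ := eT (q j)
      haveI := (Serre.subsingleton_H'_top_iff _ d).1 (hN j hj n (le_of_max_le_left hn) d hd)
      exact subsingleton_HH_of_iso e d
    · exact subsingleton_HH_of_isZero (hzero p (by omega)) d
  rw [isZero_homology_RΓ_iff]
  by_cases hi : a ≤ i ∧ i ≤ c
  · obtain ⟨j, hj, rfl⟩ := hidx i hi.1 hi.2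
    obtain ⟨e⟩ := eT (q j)
    have hgen : Curv2.IsGloballyGenerated (DCoh.HD T (q j)) := by
      obtain ⟨ι, p, hp⟩ := hm j n ((Finset.le_sup (Finset.mem_range.2 (Nat.lt_succ_of_le hj))).trans
        (le_of_max_le_right hn))
      exact ⟨ι, p ≫ e.inv, inferInstance⟩
    rw [isZero_of_van T a c (q j) hpos hgen]
    exact ⟨fun h => isZero_of_isZero_tensor hLi (h.of_iso e.symm),
      fun h => (((shT Y).flip.obj N₀).map_isZero h).of_iso e⟩
  · refine iff_of_true ?_ ?_
    · obtain ⟨n', hn'⟩ : ∃ n' : ℕ, c ≤ a + n' - 1 := ⟨(c + 1 - a).toNat, by omega⟩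
      refine van_of_HD n' T a i ‹_› (DerivedCategory.TStructure.t.isLE_of_le T c _ hn') fun p hp => ?_
      rcases eq_or_lt_of_le hp with rfl | hlt
      · exact subsingleton_HH_of_isZero (hzero p (by omega)) _
      · exact hpos p _ (by omega)
    · rcases not_and_or.1 hi with h | h
      · exact DerivedCategory.isZero_of_isGE G a i (by omega)
      · exact DerivedCategory.isZero_of_isLE G c i (by omega)

end Groth.Agent.FMK16
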