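import Groth.Agent.DQCoh.RHomQCoh
import Groth.Agent.DQCoh.BettiRank
import Groth.Agent.DQCoh.PerfectAffine
import Groth.Agent.DCat.RHomSeq
import Groth.Agent.DCat.SuppOpen
import Groth.Agent.DCat.ProjPerfFree

/-!
# The amplitude of the dual of a perfect object at a point
-/

set_option autoImplicit false
set_option backward.isDefEq.respectTransparency false
set_option backward.defeqAttrib.useBackward true
set_option linter.style.haveILetI false
set_option linter.unusedSectionVars false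
set_option linter.unusedVariables false
set_option synthInstance.maxHeartbeats 100000
set_option backward.isDefEq.respectTransparency.types false

universe u

open CategoryTheory CategoryTheory.Limits CategoryTheory.Pretriangulated DerivedCategory Opposite TopologicalSpace AlgebraicGeometry
open HomologicalComplex
open Groth.Agent.DCat Groth.Agent.Coherent Groth.Agent.DCat.PerfLocal

attribute [local instance] HasDerivedCategory.standard
attribute [-instance] Int.instConditionallyCompleteLinearOrder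

namespace Groth.Agent.FMK16

variable {X : Scheme.{u}}

/-- `RHom(E, L)` vanishes in degree `i` for `E` in degrees `≥ m` and `L` vanishing in degrees `≥ i + m`. -/
def Cuts (E : CochainComplex X.Modules ℤ) : Prop :=
  IsKFlatFor (shT X) E ∧ ∀ (m : ℤ), (∀ n, n < m → IsZero (E.X n)) →
    ∀ (_ : DCoh.HasLTensorCx E) (_ : DCoh.HasRSheafHom E) (L : DCoh.D X) (i : ℤ),
      (∀ j, i + m ≤ j → IsZero (DCoh.HD L j)) → IsZero (DCoh.HD ((DCoh.RSheafHom E).obj L) i)

theorem cuts_of_iso {E E' : CochainComplex X.Modules ℤ} (e : E ≅ E') (h : Cuts E) : Cuts E' := by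
  refine ⟨h.1.of_iso e, fun m hm i₁ i₂ L i hL => ?_⟩
  haveI := LTensorSheaf.hasLTensorCx E
  haveI := RHomExist.hasRSheafHom E
  haveI := i₁
  haveI := i₂
  obtain ⟨a⟩ := TensorCongr.nonempty_congr_rhom (E := E) (E' := E') (DerivedCategory.Q.mapIso e)
  exact (h.2 m (fun n hn => (hm n hn).of_iso ((HomologicalComplex.eval _ _ n).mapIso e)) _ _ L i hL).of_iso
    ((homologyFunctor X.Modules i).mapIso (a.app L)).symm

theorem cuts_of_isZero {E : CochainComplex X.Modules ℤ} (hE : IsZero E) : Cuts E :=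
  ⟨isKFlatFor_of_isZero hE, fun m _ i₁ i₂ L i _ => by
    haveI := i₁
    haveI := i₂
    let Y := (DCoh.RSheafHom E).obj L
    let A := DerivedCategory.Q.objPreimage Y
    have hz : IsZero ((DCoh.LTensorCx E).obj Y) :=
      (DerivedCategory.Q.map_isZero (((shT X).map₂CochainComplex.obj A).map_isZero hE)).of_iso
        ((DCoh.LTensorCx E).mapIso (DerivedCategory.Q.objObjPreimageIso Y).symm ≪≫
          LTensorSheaf.ltensorCxIso' (isKFlatFor_of_isZero hE) A)
    exact (homologyFunctor X.Modules i).map_isZero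
      ((IsZero.iff_id_eq_zero _).2 (((DCoh.RSheafHomAdj E).homEquiv Y L).symm.injective (hz.eq_of_src _ _)))⟩

theorem cuts_ext (S : ShortComplex (CochainComplex X.Modules ℤ))
    (hS : ∀ n, Nonempty ((S.map (HomologicalComplex.eval X.Modules (ComplexShape.up ℤ) n)).Splitting))
    (h₁ : Cuts S.X₁) (h₃ : Cuts S.X₃) : Cuts S.X₂ := by
  have h₂ : IsKFlatFor (shT X) S.X₂ :=
    IsKFlatFor.ext₂ (fun a q => ((hS q).some.map ((shT X).obj a)).shortExact) h₁.1 h₃.1
  refine ⟨h₂, fun m hm i₁ i₂ L i hL => ?_⟩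
  haveI := i₁
  haveI := i₂
  haveI := LTensorSheaf.hasLTensorCx S.X₁
  haveI := RHomExist.hasRSheafHom S.X₁
  haveI := LTensorSheaf.hasLTensorCx S.X₃
  haveI := RHomExist.hasRSheafHom S.X₃
  have hm₁ : ∀ n, n < m → IsZero (S.X₁.X n) := fun n hn => (IsZero.iff_id_eq_zero _).2
    ((hS n).some.f_r.symm.trans (by rw [(hm n hn).eq_of_src (hS n).some.r 0, comp_zero]))
  have hm₃ : ∀ n, n < m → IsZero (S.X₃.X n) := fun n hn => (IsZero.iff_id_eq_zero _).2
    ((hS n).some.s_g.symm.trans (by rw [(hm n hn).eq_of_tgt (hS n).some.s 0, zero_comp]))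
  obtain ⟨a, b, d, hT⟩ := RHomSeq.exists_nat_triangle (shT X) (DCoh.tensorCx (X := X)) rfl S hS
    (TensorCongr.fac h₁.1) (TensorCongr.fac h₂) (TensorCongr.fac h₃.1)
  exact (RHomSeq.exact_of_hom_exact (homologyFunctor X.Modules i) _ _
    (RHomSeq.Rg_Rf (DCoh.RSheafHomAdj S.X₁) (DCoh.RSheafHomAdj S.X₂) (DCoh.RSheafHomAdj S.X₃) a b d hT L)
    fun _ g hg => RHomSeq.exact₂ (DCoh.RSheafHomAdj S.X₁) (DCoh.RSheafHomAdj S.X₂) (DCoh.RSheafHomAdj S.X₃) a b d hT L g hg).isZero_of_both_zeros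
      ((h₃.2 m hm₃ _ _ L i hL).eq_of_src _ _) ((h₁.2 m hm₁ _ _ L i hL).eq_of_tgt _ _)

theorem cuts_structure (q : ℤ) : Cuts ((single X.Modules (ComplexShape.up ℤ) q).obj (Coh.structureModule X)) := by
  let E₀ := (single X.Modules (ComplexShape.up ℤ) 0).obj (Coh.structureModule X)
  have hk : IsKFlatFor (shT X) E₀ := RHomLeft.isKFlatFor_structure X
  let e : E₀⟦-q⟧ ≅ (single X.Modules (ComplexShape.up ℤ) q).obj (Coh.structureModule X) :=
    ((CochainComplex.singleFunctors X.Modules).shiftIso (-q) q 0 (by omega)).app _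
  refine ⟨(hk.shift (-q)).of_iso e, fun m hm i₁ i₂ L i hL => ?_⟩
  haveI := LTensorSheaf.hasLTensorCx E₀
  haveI := RHomExist.hasRSheafHom E₀
  haveI := LTensorSheaf.hasLTensorCx (E₀⟦-q⟧)
  haveI := RHomExist.hasRSheafHom (E₀⟦-q⟧)
  haveI := i₁
  haveI := i₂
  obtain ⟨a⟩ := TensorCongr.nonempty_congr_rhom (E := E₀⟦-q⟧)
    (E' := (single X.Modules (ComplexShape.up ℤ) q).obj (Coh.structureModule X)) (DerivedCategory.Q.mapIso e)
  obtain ⟨s⟩ := RHomLeft.nonempty_RHom_shift E₀ hk (-q)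
  obtain ⟨o⟩ := RHomLeft.nonempty_RHom_structure (X := X)
  let φ : DCoh.HD ((DCoh.RSheafHom ((single X.Modules (ComplexShape.up ℤ) q).obj (Coh.structureModule X))).obj L) i ≅
      DCoh.HD L (i + q) :=
    (homologyFunctor X.Modules i).mapIso ((a.app L).symm ≪≫ s.app L ≪≫ o.app _) ≪≫
      ((homologyFunctor X.Modules 0).shiftIso (- -q) i (i + q) (by omega)).app L
  rcases lt_or_ge q m with hq | hq
  · have hO : IsZero (Coh.structureModule X) :=
      (hm q hq).of_iso (singleObjXSelf (ComplexShape.up ℤ) q (Coh.structureModule X)).symm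
    exact (cuts_of_isZero ((single X.Modules (ComplexShape.up ℤ) q).map_isZero hO)).2 m hm i₁ i₂ L i hL
  · exact (hL (i + q) (by omega)).of_iso φ

theorem cuts_bounded (E : CochainComplex X.Modules ℤ) {a b : ℤ} (hE : DCoh.VanishesOutside E a b)
    (hfree : ∀ i, ∃ n, Nonempty (E.X i ≅ FlatMod.freeMod X n)) : Cuts E := by
  refine DCat.bounded_induction Cuts (fun M => ∃ n, Nonempty (M ≅ FlatMod.freeMod X n))
    (fun K hK => cuts_of_isZero hK) (fun M hM => ⟨0, ⟨hM.iso ProjPerf.isZero_freeMod_zero⟩⟩)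
    (fun M N e ⟨n, ⟨f⟩⟩ => ⟨n, ⟨e.symm ≪≫ f⟩⟩)
    (fun m M ⟨n, ⟨f⟩⟩ => cuts_of_iso ((single _ _ m).mapIso f.symm) ?_)
    (fun S hS h₁ h₃ => cuts_ext S hS h₁ h₃) a (b + 1 - a).toNat E (fun n hn => hE n (Or.inl hn))
    (fun n hn => hE n (Or.inr (by omega))) hfree
  clear f
  induction n with
  | zero => exact cuts_of_isZero ((single _ _ m).map_isZero ProjPerf.isZero_freeMod_zero)
  | succ n ih =>
    let T := RHomLeft.sigmaSeq (fun _ : Fin (n + 1) => Coh.structureModule X)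
    let sp : T.Splitting := RHomLeft.sigmaSplit (fun _ : Fin (n + 1) => Coh.structureModule X)
    exact cuts_ext (T.map (single X.Modules (ComplexShape.up ℤ) m))
      (fun q => ⟨sp.map (single X.Modules (ComplexShape.up ℤ) m ⋙ HomologicalComplex.eval _ _ q)⟩)
      (cuts_structure m) ih

/-- A model in degrees `≥ m` near a point whose fibre vanishes below `m`. -/
theorem exists_model_ge (D : DCoh.D X) [∀ x : X, DCoh.HasLpull (X.fromSpecResidueField x)] (hD : DCoh.IsPerfect D)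
    (y : X) (m : ℤ) (h : ∀ q, q < m → PerfD.betti D y q = 0) :
    ∃ (W : Scheme.{u}) (k : W ⟶ X) (_ : IsOpenImmersion k) (E : CochainComplex W.Modules ℤ) (b : ℤ),
      y ∈ k.opensRange ∧ DCoh.VanishesOutside E m b ∧ (∀ i, ∃ n, Nonempty (E.X i ≅ FlatMod.freeMod W n)) ∧
      Nonempty (DerivedCategory.Q.obj E ≅ (rd k).obj D) := by
  obtain ⟨R₀, _, k₀, _, P₀, a₀, b₀, hyk, hP₀, hp₀, ⟨e₀⟩⟩ := DQCoh.exists_affine_perfect hD y
  let V₀ : X.Opens := k₀.opensRange
  have hout : ∀ x' ∈ k₀.opensRange, ∀ p, p < a₀ - 1 → PerfD.betti D x' p = 0 := by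
    rintro _ ⟨z, rfl⟩ p hp'
    have h := DQCoh.betti_formula D k₀ hP₀ hp₀ (p - 1) e₀.hom (PullPerf.apx_of_isIso _ _) p (by omega) z
    haveI := ModuleCat.subsingleton_of_isZero (hP₀ p (by omega))
    haveI := ModuleCat.subsingleton_of_isZero (hP₀ (p + 1) (by omega))
    rw [Module.rankAtStalk_eq_zero_of_subsingleton] at h
    have z1 : ∀ (M : Type u) [AddCommGroup M] [Module R₀ M] [Subsingleton M],
        FlatCxLib.fibreRank (A := R₀) M z = 0 := fun M _ _ _ => Module.finrank_zero_of_subsingleton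
    haveI : Subsingleton (P₀.X p ⧸ LinearMap.range (P₀.d (p - 1) p).hom) := (Submodule.mkQ_surjective _).subsingleton
    haveI : Subsingleton (P₀.X (p + 1) ⧸ LinearMap.range (P₀.d p (p + 1)).hom) :=
      (Submodule.mkQ_surjective _).subsingleton
    rw [z1, z1] at h
    simpa using h
  let G : Set X := (k₀.opensRange : Set X) ∩ ⋂ q ∈ Finset.Ico (a₀ - 1) m, {x | PerfD.betti D x q < 1}
  have hG : IsOpen G := k₀.opensRange.2.inter
    (isOpen_biInter_finset fun q _ => DQCoh.isOpen_betti_lt D (DQCoh.psc_of_perfect hD) q 1)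
  let U : X.Opens := ⟨G, hG⟩
  have hyU : y ∈ U := ⟨hyk, Set.mem_iInter₂.2 fun q hq => by
    show PerfD.betti D y q < 1
    rw [h q (Finset.mem_Ico.1 hq).2]; exact one_pos⟩
  have hU : ∀ x ∈ U, ∀ q, q < m → PerfD.betti D x q = 0 := fun x hx q hq => by
    rcases lt_or_ge q (a₀ - 1) with hq' | hq'
    · exact hout x hx.1 q hq'
    · exact Nat.lt_one_iff.1 (Set.mem_iInter₂.1 hx.2 q (Finset.mem_Ico.2 ⟨hq', hq⟩))
  haveI := hasLpull U.ι
  haveI : ∀ w : (U : Scheme.{u}), DCoh.HasLpull ((U : Scheme.{u}).fromSpecResidueField w) := fun w => hasLpull _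
  obtain ⟨c₀⟩ := DQCoh.nonempty_Lpull_restrict U.ι D
  let EU := (rd U.ι).obj D
  have hEU : DCoh.IsPerfect EU := PCTriangle.perfect_iso c₀ (PullPerf.isPerfect_Lpull U.ι D hD)
  obtain ⟨R, _, k, _, P, a, b, hxk, hP, hp, ⟨e⟩⟩ := DQCoh.exists_affine_perfect hEU ⟨y, hyU⟩
  haveI : ∀ N : ModuleCat.{u} R, DRing.HasLTensor R N := fun N => DCat.hasLTensor N
  have hamp : DRing.HasTorAmplitudeIn R m (max m b) (DRing.toD P) := DCat.flatAmp_of_vanish fun N p hpi => by
    rw [DCat.isZero_ltensor_iff N (DQCoh.isKFlatFor_finiteProjective hP hp) (Iso.refl _) p]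
    rcases hpi with hpi | hpi
    swap
    · rw [HomologicalComplex.exactAt_iff]
      exact ShortComplex.exact_of_isZero_X₂ _ ((MonoidalCategory.tensorRight N).map_isZero (hP p (Or.inr (by omega))))
    haveI := (hp p).1
    haveI := (hp p).2
    haveI := (hp (p + 1)).2
    refine DRingLib.exactAt_tensor_of_fibres P p (fun I hI => ?_) N
    haveI := hI
    letI : Field (R ⧸ I) := Ideal.Quotient.field I
    let ψ : R ⟶ CommRingCat.of (R ⧸ I) := CommRingCat.ofHom (Ideal.Quotient.mk I)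
    let g : Spec (CommRingCat.of (R ⧸ I)) ⟶ (U : Scheme.{u}) := Spec.map ψ ≫ k
    haveI := hasLpull g
    haveI := hasLpull (g ≫ U.ι)
    have h0 := DQCoh.fdim_chart EU k P (DQCoh.isKFlatFor_finiteProjective hP hp) (p - 1) e.hom (PullPerf.apx_of_isIso _ _)
      (CommRingCat.of (R ⧸ I)) g ψ rfl p (by omega)
    have h1 : DQCoh.fdim EU (CommRingCat.of (R ⧸ I)) g p = 0 := by
      rw [← DQCoh.fdim_iso g c₀ p, DQCoh.fdim_comp U.ι g D p,
        DQCoh.fdim_eq_betti D hD _ (Field.toIsField (R ⧸ I)) (g ≫ U.ι) (⊥ : PrimeSpectrum (R ⧸ I)) p]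
      exact hU _ (g (⊥ : PrimeSpectrum (R ⧸ I))).2 p (by omega)
    rw [h1] at h0
    rw [HomologicalComplex.exactAt_iff_isZero_homology]
    let C := ((ModuleCat.extendScalars.{u, u, u} (Ideal.Quotient.mk I)).mapHomologicalComplex (ComplexShape.up ℤ)).obj P
    haveI : Module.Finite (R ⧸ I) (C.X p) := by
      haveI := (hp p).1
      letI := (Ideal.Quotient.mk I).toAlgebra
      exact Module.Finite.base_change R (R ⧸ I) (P.X p)
    haveI : Module.Finite (R ⧸ I) (C.homology p) :=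
      DRingLib.finite_homology_of_finite_cycles p inferInstance
    exact @ModuleCat.isZero_of_subsingleton _ _ _ (Module.finrank_zero_iff.1 h0.symm)
  obtain ⟨Q, hQ, hQp, ⟨eQ⟩⟩ := DRingLib.exists_finiteProjective (le_max_left m b)
    (DRingLib.pc_of_pc' ((DRingLib.perfect_iff _).1 ⟨P, a, b, hP, hp, ⟨Iso.refl _⟩⟩).1 _) hamp
  let C := ((tilde.functor R).mapHomologicalComplex (ComplexShape.up ℤ)).obj Q
  obtain ⟨z, hz⟩ := hxk
  obtain ⟨O, hzO, hO⟩ := DQCoh.exists_free_nhd C (fun i => (Props12.isFinLocFree_tilde_iff (R := CommRingCat.of R) (Q.X i)).2 (hQp i)) z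
    (Finset.Icc m (max m b))
  obtain ⟨c₁⟩ := rd_comp O.ι k EU
  obtain ⟨c₂⟩ := rd_comp (O.ι ≫ k) U.ι D
  refine ⟨O, (O.ι ≫ k) ≫ U.ι, inferInstance,
    ((Scheme.Modules.restrictFunctor O.ι).mapHomologicalComplex (ComplexShape.up ℤ)).obj C, max m b, ?_,
    fun i hi => (Scheme.Modules.restrictFunctor O.ι).map_isZero ((tilde.functor R).map_isZero (hQ i hi)),
    fun i => ?_, ⟨?_⟩⟩
  · refine ⟨⟨z, hzO⟩, ?_⟩
    show U.ι (k z) = y
    rw [hz]; rfl
  · by_cases hi : i ∈ Finset.Icc m (max m b)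
    · exact hO i hi
    · refine ⟨0, ⟨IsZero.iso ((Scheme.Modules.restrictFunctor O.ι).map_isZero ((tilde.functor R).map_isZero (hQ i ?_)))
        ProjPerf.isZero_freeMod_zero⟩⟩
      simp only [Finset.mem_Icc] at hi
      omega
  · exact ((Scheme.Modules.restrictFunctor O.ι).mapDerivedCategoryFactors.app C).symm ≪≫
      (rd O.ι).mapIso ((((tilde.functor R).mapDerivedCategoryFactors.app Q).symm ≪≫ (DCoh.tildeD R).mapIso eQ ≪≫ e)) ≪≫
      c₁.symm ≪≫ c₂.symm

/-- The dual vanishes at `y` above minus the lowest degree of the fibre. -/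
theorem subsingleton_stalk_dual [∀ x : X, DCoh.HasLpull (X.fromSpecResidueField x)]
    (K : CochainComplex X.Modules ℤ) (hK : DCoh.IsPerfect (DerivedCategory.Q.obj K))
    [DCoh.HasLTensorCx K] [DCoh.HasRSheafHom K] (y : X) (m : ℤ)
    (h : ∀ q, q < m → PerfD.betti (DerivedCategory.Q.obj K) y q = 0) (i : ℤ) (hi : -m < i) :
    Subsingleton ((DCoh.HD ((DCoh.RSheafHom K).obj (DCoh.inD X (Coh.structureModule X))) i).presheaf.stalk y) := by
  obtain ⟨W, k, hk, E, b, hy, hE, hfree, ⟨e⟩⟩ := exists_model_ge _ hK y m h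
  obtain ⟨w, rfl⟩ := hy
  let K' := ((Scheme.Modules.restrictFunctor k).mapHomologicalComplex (ComplexShape.up ℤ)).obj K
  haveI := LTensorSheaf.hasLTensorCx K'
  haveI := RHomExist.hasRSheafHom K'
  haveI := LTensorSheaf.hasLTensorCx E
  haveI := RHomExist.hasRSheafHom E
  obtain ⟨r⟩ := ShriekTensor.nonempty_restrict_RHom_of_eq k K K' rfl (rd k) rfl
  obtain ⟨q⟩ := DQCoh.nonempty_Q_map (Scheme.Modules.restrictFunctor k) K
  obtain ⟨f⟩ := TensorCongr.nonempty_congr_rhom (E := E) (E' := K') (e ≪≫ q.symm)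
  let L := (rd k).obj (DCoh.inD X (Coh.structureModule X))
  have hL : ∀ j, i + m ≤ j → IsZero (DCoh.HD L j) := fun j hj => by
    refine IsZero.of_iso ?_ (SuppOpen.hdMapIso (Scheme.Modules.restrictFunctor k) (DCoh.inD X (Coh.structureModule X)) j)
    exact (Scheme.Modules.restrictFunctor k).map_isZero
      (DerivedCategory.isZero_of_isLE _ 0 j (by omega))
  have hz := (cuts_bounded E hE hfree).2 m (fun n hn => hE n (Or.inl hn)) inferInstance inferInstance L i hL
  refine SuppOpen.subsingleton_stalk_of_restrict k _ w (SuppOpen.subsingleton_of_isZero_stalkFunctor _ w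
    ((DerSch.stalkFunctor W w).map_isZero (hz.of_iso ?_)))
  exact (SuppOpen.hdMapIso (Scheme.Modules.restrictFunctor k) _ i).symm ≪≫
    (homologyFunctor _ i).mapIso (r.app _ ≪≫ (f.app L).symm)

end Groth.Agent.FMK16
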