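import Groth.Agent.FMK16.TopDegree
import Groth.Agent.FMK16.StalkLoc
import Groth.Agent.CAlgH3.ProjDim
import Groth.Agent.CAlgH3.CMRing
import Groth.Agent.RefHullLib.Restrict

/-!
# Vanishing of the fibre below the lowest cohomology sheaf of a perfect object, by Auslander–Buchsbaum
-/

set_option autoImplicit false
set_option backward.isDefEq.respectTransparency false
set_option backward.defeqAttrib.useBackward true
set_option linter.style.haveILetI false
set_option synthInstance.maxHeartbeats 100000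
set_option linter.unusedVariables false
set_option linter.unusedSectionVars false
set_option backward.isDefEq.respectTransparency.types false

universe u

open CategoryTheory CategoryTheory.Limits AlgebraicGeometry TopologicalSpace Opposite DerivedCategory
open Groth.Agent.DCat Groth.Agent.Coherent
open scoped TensorProduct

attribute [local instance] HasDerivedCategory.standard
attribute [-instance] Int.instConditionallyCompleteLinearOrder

namespace Groth.Agent.FMK16

section AB

variable {A : Type u} [CommRing A]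

/-- Auslander–Buchsbaum bounds a finite projective dimension by the depth of the ring. -/
theorem pd_le_depth [IsLocalRing A] [IsNoetherianRing A] {M : Type u} [AddCommGroup M] [Module A M] [Module.Finite A M] (δ c : ℕ)
    (hδ : LocCoh.depth A A ≤ (δ : ℕ∞)) (hc : Nontrivial M → (c : ℕ∞) ≤ LocCoh.depth A M) (N : ℕ)
    (hN : CAlgH3.PD A N M) : CAlgH3.PD A (δ + 1 - c) M := by
  rcases subsingleton_or_nontrivial M with h | h
  · exact CAlgH3.pd_mono (Nat.zero_le _) (CAlgH3.pd_zero_iff.2 h)
  classical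
  have hex : ∃ n, CAlgH3.PD A n M := ⟨N, hN⟩
  have h0 : Nat.find hex ≠ 0 := fun h0 => by
    have h1 := Nat.find_spec hex
    rw [h0, CAlgH3.pd_zero_iff] at h1
    exact not_nontrivial M h
  obtain ⟨e, he⟩ := Nat.exists_eq_succ_of_ne_zero h0
  have h1 : CAlgH3.PD A (e + 1) M := by
    have := Nat.find_spec hex
    rwa [he] at this
  have h2 : ¬ CAlgH3.PD A e M := Nat.find_min hex (by omega)
  obtain ⟨m, hm⟩ := CAlgH3.exists_depth_eq_natCast (R := A) (M := M)
  have h3 := CAlgH3.depth_add_of_pd e M h1 h2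
  rw [h3, hm] at hδ
  have h4 : e + m ≤ δ := by exact_mod_cast hδ
  have h5 : c ≤ m := by
    have := hc h
    rw [hm] at this
    exact_mod_cast this
  exact CAlgH3.pd_mono (by omega) h1

variable {F G H : Type u} [AddCommGroup F] [Module A F] [AddCommGroup G] [Module A G] [AddCommGroup H] [Module A H]

/-- The map from a cokernel to the next term of an exact sequence. -/
theorem exists_coker_map {f : F →ₗ[A] G} {g : G →ₗ[A] H} (hex : Function.Exact f g) :
    ∃ ι : (G ⧸ LinearMap.range f) →ₗ[A] H, Function.Injective ι ∧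
      Function.Exact ι (LinearMap.range g).mkQ ∧ ι ∘ₗ (LinearMap.range f).mkQ = g := by
  have hle : LinearMap.range f ≤ LinearMap.ker g := fun x hx => (hex x).2 hx
  have hr : LinearMap.range ((LinearMap.range f).liftQ g hle) = LinearMap.range g := Submodule.range_liftQ _ _ _
  refine ⟨(LinearMap.range f).liftQ g hle, ?_, ?_, Submodule.liftQ_mkQ _ _ _⟩
  · refine (injective_iff_map_eq_zero _).2 fun c hc => ?_
    obtain ⟨x, rfl⟩ := Submodule.mkQ_surjective _ c
    exact (Submodule.Quotient.mk_eq_zero _).2 ((hex x).1 hc)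
  · rw [LinearMap.exact_iff, Submodule.ker_mkQ, hr]

/-- Projective dimensions of successive cokernels. -/
theorem pd_coker_step [Module.Projective A H] {f : F →ₗ[A] G} {g : G →ₗ[A] H} (hex : Function.Exact f g) (n : ℕ) :
    (CAlgH3.PD A (n + 2) (H ⧸ LinearMap.range g) → CAlgH3.PD A (n + 1) (G ⧸ LinearMap.range f)) ∧
      (CAlgH3.PD A n (G ⧸ LinearMap.range f) → CAlgH3.PD A (n + 1) (H ⧸ LinearMap.range g)) := by
  obtain ⟨ι, hι, hex', -⟩ := exists_coker_map hex
  have h := CAlgH3.pd_of_ses (n := n) ι (LinearMap.range g).mkQ hι (Submodule.mkQ_surjective _) hex'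
  have h' := CAlgH3.pd_of_ses (n := n + 1) ι (LinearMap.range g).mkQ hι (Submodule.mkQ_surjective _) hex'
  have hH : ∀ k, CAlgH3.PD A (k + 1) H := fun k => CAlgH3.pd_mono (by omega) (CAlgH3.pd_one_iff.2 inferInstance)
  exact ⟨fun hP => h'.2.1 (hH n) hP, fun hC => h.2.2 hC (hH n)⟩

/-- A map with projective cokernels on both sides is regular. -/
theorem regular_of_projective [Module.Projective A H] {f : F →ₗ[A] G} {g : G →ₗ[A] H} (hex : Function.Exact f g)
    (h₁ : Module.Projective A (G ⧸ LinearMap.range f)) (h₂ : Module.Projective A (H ⧸ LinearMap.range g)) :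
    Regular g := by
  obtain ⟨ι, hι, hex', hg⟩ := exists_coker_map hex
  haveI := h₁
  haveI := h₂
  obtain ⟨s, hs⟩ := Module.projective_lifting_property (LinearMap.range f).mkQ LinearMap.id (Submodule.mkQ_surjective _)
  obtain ⟨σ, hσ⟩ := Module.projective_lifting_property (LinearMap.range g).mkQ LinearMap.id (Submodule.mkQ_surjective _)
  have hexr : ∀ x, x - σ ((LinearMap.range g).mkQ x) ∈ LinearMap.range ι := fun x => (hex' _).1 (by
    rw [map_sub, ← LinearMap.comp_apply _ σ, hσ, LinearMap.id_apply, sub_self])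
  let e : (G ⧸ LinearMap.range f) ≃ₗ[A] LinearMap.range ι := LinearEquiv.ofInjective ι hι
  let r : H →ₗ[A] (G ⧸ LinearMap.range f) := e.symm.toLinearMap ∘ₗ
    (LinearMap.codRestrict (LinearMap.range ι) (LinearMap.id - σ ∘ₗ (LinearMap.range g).mkQ) hexr)
  have hr : ∀ c, r (ι c) = c := fun c => by
    refine e.injective ((e.apply_symm_apply _).trans (Subtype.ext ?_))
    show ι c - σ ((LinearMap.range g).mkQ (ι c)) = ι c
    rw [hex'.apply_apply_eq_zero, map_zero, sub_zero]
  refine ⟨s ∘ₗ r, LinearMap.ext fun x => ?_⟩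
  have hgx : ∀ z, g z = ι ((LinearMap.range f).mkQ z) := fun z => (LinearMap.congr_fun hg z).symm
  simp only [LinearMap.comp_apply]
  rw [hgx x, hr, hgx, ← LinearMap.comp_apply _ s, hs, LinearMap.id_apply]

end AB

section Local

variable {R : Type u} [CommRing R] (P : DRing.Cx R) (y : PrimeSpectrum R)

/-- The cokernel at degree `j` after localization at a prime. -/
abbrev LCoker (p j : ℤ) : Type u :=
  (Localization.AtPrime y.asIdeal ⊗[R] P.X j) ⧸ LinearMap.range ((P.d p j).hom.baseChange (Localization.AtPrime y.asIdeal))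

/-- Exactness at the residue field below `e - n` from exactness at the local ring below `e`, `n` bounding the
projective dimension of the cokernel at `e` when this is finite. -/
theorem exact_residue_below {a b : ℤ} (hP : DRing.VanishesOutside P a b) (hp : DRing.TermwiseFiniteProjective P)
    (e : ℤ) (h : ∀ j, j < e → Function.Exact ((P.d (j - 1) j).hom.baseChange (Localization.AtPrime y.asIdeal))
      ((P.d j (j + 1)).hom.baseChange (Localization.AtPrime y.asIdeal))) (n : ℕ)
    (hn : ∀ N, CAlgH3.PD (Localization.AtPrime y.asIdeal) N (LCoker P y (e - 1) e) →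
      CAlgH3.PD (Localization.AtPrime y.asIdeal) (n + 1) (LCoker P y (e - 1) e))
    (j : ℤ) (hj : j < e - n) :
    Function.Exact ((P.d (j - 1) j).hom.baseChange y.asIdeal.ResidueField)
      ((P.d j (j + 1)).hom.baseChange y.asIdeal.ResidueField) := by
  let A := Localization.AtPrime y.asIdeal
  haveI : ∀ j, Module.Finite R (P.X j) := fun j => (hp j).1
  haveI : ∀ j, Module.Projective R (P.X j) := fun j => (hp j).2
  have hcast : ∀ (k : ℤ) (m : ℕ), CAlgH3.PD A m (LCoker P y (k + 1 - 1) (k + 1)) ↔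
      CAlgH3.PD A m (LCoker P y k (k + 1)) := fun k m => by rw [add_sub_cancel_right]
  have hfin : ∀ (m : ℕ) (k : ℤ), k ≤ e → k < a + m → CAlgH3.PD A m (LCoker P y (k - 1) k) := by
    intro m
    induction m with
    | zero =>
      intro k _ hk
      haveI := ModuleCat.subsingleton_of_isZero (hP k (Or.inl (by omega)))
      haveI : Subsingleton (A ⊗[R] P.X k) := inferInstance
      exact CAlgH3.pd_zero_iff.2 (Submodule.mkQ_surjective _).subsingleton
    | succ m ih =>
      intro k hke hk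
      obtain ⟨k, rfl⟩ : ∃ k', k = k' + 1 := ⟨k - 1, by omega⟩
      rw [hcast k (m + 1)]
      exact (pd_coker_step (h k (by omega)) m).2 (ih k (by omega) (by push_cast at hk; omega))
  have hdesc : ∀ (t m : ℕ), CAlgH3.PD A (t + m + 1) (LCoker P y (e - 1) e) →
      CAlgH3.PD A (m + 1) (LCoker P y (e - t - 1) (e - t)) := by
    intro t
    induction t with
    | zero =>
      intro m hm
      rw [Nat.cast_zero, sub_zero]
      rwa [Nat.zero_add] at hm
    | succ t ih =>
      intro m hm
      have h1 := ih (m + 1) (by rw [show t + (m + 1) + 1 = t + 1 + m + 1 from by omega]; exact hm)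
      rw [show e - (t : ℤ) = (e - ((t + 1 : ℕ) : ℤ)) + 1 from by push_cast; ring, hcast] at h1
      exact (pd_coker_step (h (e - ((t + 1 : ℕ) : ℤ)) (by omega)) m).1 h1
  have hproj : ∀ k, k ≤ e - n → Module.Projective A (LCoker P y (k - 1) k) := by
    intro k hk
    have h0 : CAlgH3.PD A (n + 1) (LCoker P y (e - 1) e) := hn _ (hfin (e - a + 1).toNat e le_rfl (by omega))
    obtain ⟨t, ht⟩ : ∃ t : ℕ, k = e - t := ⟨(e - k).toNat, by omega⟩
    subst ht
    exact CAlgH3.pd_one_iff.1 (hdesc t 0 (CAlgH3.pd_mono (by omega) h0))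
  have h₂ := hproj (j + 1) (by omega)
  rw [add_sub_cancel_right] at h₂
  exact (exact_baseChange_trans (B := A) _ _).1
    ((regular_step (h j (by omega)) (regular_of_projective (h j (by omega)) (hproj j (by omega)) h₂)).2
      y.asIdeal.ResidueField)

/-- The localized cokernel in degree `0` has positive depth when `H⁰` is torsion free. -/
theorem one_le_depth_lcoker [IsNoetherianRing (Localization.AtPrime y.asIdeal)] (hp : DRing.TermwiseFiniteProjective P)
    (hcm : 1 ≤ LocCoh.depth (Localization.AtPrime y.asIdeal) (Localization.AtPrime y.asIdeal))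
    (htf : ∀ r : R, algebraMap R (Localization.AtPrime y.asIdeal) r ∈ nonZeroDivisors _ → ∀ x : P.X 0,
      (P.d 0 1).hom x = 0 → (∃ s : y.asIdeal.primeCompl, s • r • x ∈ LinearMap.range (P.d (0 - 1) 0).hom) →
      ∃ s : y.asIdeal.primeCompl, s • x ∈ LinearMap.range (P.d (0 - 1) 0).hom)
    [Nontrivial (LCoker P y (0 - 1) 0)] :
    1 ≤ LocCoh.depth (Localization.AtPrime y.asIdeal) (LCoker P y (0 - 1) 0) := by
  let A := Localization.AtPrime y.asIdeal
  let S := y.asIdeal.primeCompl
  haveI : ∀ j, Module.Finite R (P.X j) := fun j => (hp j).1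
  haveI : ∀ j, Module.Projective R (P.X j) := fun j => (hp j).2
  let π : ∀ j : ℤ, P.X j →ₗ[R] A ⊗[R] P.X j := fun j => TensorProduct.mk R A (P.X j) 1
  haveI : ∀ j, IsLocalizedModule S (π j) := fun j =>
    (isLocalizedModule_iff_isBaseChange S A _).2 (TensorProduct.isBaseChange R (P.X j) A)
  have hnat : ∀ (p q : ℤ) (x : P.X p), (P.d p q).hom.baseChange A (π p x) = π q ((P.d p q).hom x) :=
    fun p q x => LinearMap.baseChange_tmul _ _ _
  obtain ⟨a', ha', hreg⟩ := CAlgH3.exists_regular_of_one_le_depth (R := A) (M := A) hcm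
  obtain ⟨⟨r, s₀⟩, hr⟩ := IsLocalization.surj S a'
  have hrm : algebraMap R A r ∈ IsLocalRing.maximalIdeal A := hr ▸ Ideal.mul_mem_right _ _ ha'
  have hrreg : IsSMulRegular A (algebraMap R A r) := by
    rw [← hr]
    exact hreg.mul (IsUnit.isSMulRegular A (IsLocalization.map_units A s₀))
  have hrnzd : algebraMap R A r ∈ nonZeroDivisors A :=
    mem_nonZeroDivisors_iff_right.2 fun x hx => hrreg.right_eq_zero_of_smul (by rw [smul_eq_mul, mul_comm, hx])
  refine CAlgH3.one_le_depth_iff.2 (CAlgH3.exists_regular_iff_notMem_associatedPrimes.1 ⟨_, hrm, ?_⟩)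
  refine IsSMulRegular.of_right_eq_zero_of_smul fun c hc => ?_
  obtain ⟨z, rfl⟩ := Submodule.mkQ_surjective _ c
  rw [← map_smul, Submodule.mkQ_apply, Submodule.Quotient.mk_eq_zero] at hc
  rw [Submodule.mkQ_apply, Submodule.Quotient.mk_eq_zero]
  obtain ⟨⟨x, s₁⟩, hx⟩ := IsLocalizedModule.surj S (π 0) z
  -- the class is a cycle
  have hdz : (P.d 0 1).hom.baseChange A z = 0 := by
    have h1 : algebraMap R A r • (P.d 0 1).hom.baseChange A z = 0 := by
      rw [← map_smul]
      obtain ⟨w, hw⟩ := hc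
      rw [← hw, ← LinearMap.comp_apply, ← LinearMap.baseChange_comp, ← ModuleCat.hom_comp, P.d_comp_d,
        ModuleCat.hom_zero, LinearMap.baseChange_zero, LinearMap.zero_apply]
    exact (Module.Flat.isSMulRegular_of_nonZeroDivisors hrnzd).right_eq_zero_of_smul h1
  have hdx : π 1 ((P.d 0 1).hom x) = π 1 0 := by
    rw [← hnat, ← hx, LinearMap.map_smul_of_tower, hdz, smul_zero, map_zero]
  obtain ⟨c₀, hc₀⟩ := IsLocalizedModule.exists_of_eq (S := S) hdx
  have hx' : (P.d 0 1).hom (c₀ • x) = 0 := by rw [LinearMap.map_smul_of_tower, hc₀, smul_zero]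
  -- its multiple by `r` is a boundary
  obtain ⟨w, hw⟩ := hc
  obtain ⟨⟨w', t⟩, hw'⟩ := IsLocalizedModule.surj S (π (0 - 1)) w
  simp only at hx hw'
  have hA : π 0 ((P.d (0 - 1) 0).hom w') = ((t : R) * r) • z := by
    rw [← hnat, ← hw', Submonoid.smul_def, LinearMap.map_smul_of_tower, hw, algebraMap_smul, smul_smul]
  have h2 : π 0 ((t : R) • r • (c₀ • x)) = π 0 ((P.d (0 - 1) 0).hom ((c₀ * s₁ : S) • w')) := by
    rw [Submonoid.smul_def (c₀ * s₁) w', Submonoid.smul_def c₀ x, map_smul, map_smul, map_smul, map_smul, map_smul,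
      hA, ← hx, Submonoid.smul_def, Submonoid.coe_mul, smul_smul, smul_smul, smul_smul, smul_smul]
    congr 1
    ring
  obtain ⟨c₁, hc₁⟩ := IsLocalizedModule.exists_of_eq (S := S) h2
  obtain ⟨s, hs⟩ := htf r hrnzd (c₀ • x) hx' ⟨c₁ * t, c₁ • ((c₀ * s₁ : S) • w'), by
    rw [LinearMap.map_smul_of_tower, ← hc₁, mul_smul, Submonoid.smul_def t]⟩
  obtain ⟨v, hv⟩ := hs
  have hu : IsUnit (algebraMap R A ((s : R) * c₀ * s₁)) :=
    IsLocalization.map_units A ⟨_, S.mul_mem (S.mul_mem s.2 c₀.2) s₁.2⟩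
  have h3 : (P.d (0 - 1) 0).hom.baseChange A (π (0 - 1) v) = algebraMap R A ((s : R) * c₀ * s₁) • z := by
    rw [hnat, hv, LinearMap.map_smul_of_tower, LinearMap.map_smul_of_tower, ← hx, algebraMap_smul,
      Submonoid.smul_def, Submonoid.smul_def, Submonoid.smul_def, smul_smul, smul_smul]
  refine ⟨(hu.unit⁻¹ : Aˣ) • π (0 - 1) v, ?_⟩
  rw [Units.smul_def, map_smul, h3, smul_smul, IsUnit.val_inv_mul, one_smul]

end Local

section Chart

variable {X : Scheme.{u}}

/-- The depth of a Cohen–Macaulay stalk, on a chart. -/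
theorem depth_localization_eq {R : CommRingCat.{u}} (k : Spec R ⟶ X) [IsOpenImmersion k] (y : Spec R)
    (hcm : LocCoh.IsCohenMacaulayLocalRing ↑(X.presheaf.stalk (k y))) (δ : ℕ)
    (hδ : ringKrullDim ↑(X.presheaf.stalk (k y)) = (δ : WithBot ℕ∞)) :
    IsNoetherianRing (Localization.AtPrime y.asIdeal) ∧
      LocCoh.depth (Localization.AtPrime y.asIdeal) (Localization.AtPrime y.asIdeal) = δ := by
  obtain ⟨φ⟩ := nonempty_stalk_equiv k y
  haveI := hcm
  haveI h : LocCoh.IsCohenMacaulayLocalRing (Localization.AtPrime y.asIdeal) :=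
    CAlgH3.isCohenMacaulayLocalRing_of_ringEquiv φ.symm
  refine ⟨inferInstance, ?_⟩
  have h1 := h.supportDim_eq_depth
  rw [Module.supportDim_self_eq_ringKrullDim, ringKrullDim_eq_of_ringEquiv φ, hδ] at h1
  exact (WithBot.coe_eq_coe.1 h1).symm

variable [∀ x : X, DCoh.HasLpull (X.fromSpecResidueField x)] (D : DCoh.D X) (hD : DCoh.IsPerfect D) (x : X) (δ : ℕ)
  (hcm : LocCoh.IsCohenMacaulayLocalRing ↑(X.presheaf.stalk x))
  (hδ : ringKrullDim ↑(X.presheaf.stalk x) = (δ : WithBot ℕ∞))

include hD hcm hδ in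
/-- The fibre vanishes below `e - dim 𝒪_x` if the stalks vanish below `e`. -/
theorem betti_eq_zero_of_stalks_below (e : ℤ)
    (h : ∀ q, q < e → Subsingleton ((DCoh.HD D q).presheaf.stalk x)) (q : ℤ) (hq : q < e - δ) :
    PerfD.betti D x q = 0 := by
  obtain ⟨R, _, k, _, P, a, b, hxk, hP, hp, ⟨ε⟩⟩ := DQCoh.exists_affine_perfect hD x
  obtain ⟨y, rfl⟩ := hxk
  obtain ⟨hN, hdep⟩ := depth_localization_eq k y hcm δ hδ
  haveI := hN
  haveI : ∀ j, Module.Finite R (P.X j) := fun j => (hp j).1
  rw [betti_eq_zero_iff D k P hP hp ε q y]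
  refine exact_residue_below P y hP hp e (fun j hj => (subsingleton_stalk_iff D k P ε j y).1 (h j hj)) δ
    (fun N hN' => ?_) q hq
  exact CAlgH3.pd_mono (by omega) (pd_le_depth δ 0 hdep.le (fun _ => bot_le) N hN')

include hD hcm hδ in
/-- The fibre vanishes below `1 - dim 𝒪_x` if the stalks vanish below degree `0` and `H⁰` is torsion free. -/
theorem betti_eq_zero_of_torsionFree (hδ1 : 1 ≤ δ)
    (h : ∀ q, q < 0 → Subsingleton ((DCoh.HD D q).presheaf.stalk x))
    (htf : ∀ r : ↑(X.presheaf.stalk x), r ∈ nonZeroDivisors ↑(X.presheaf.stalk x) →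
      ∀ m : ↑((DCoh.HD D 0).presheaf.stalk x), r • m = 0 → m = 0)
    (q : ℤ) (hq : q < 1 - (δ : ℤ)) : PerfD.betti D x q = 0 := by
  obtain ⟨R, _, k, _, P, a, b, hxk, hP, hp, ⟨ε⟩⟩ := DQCoh.exists_affine_perfect hD x
  obtain ⟨y, rfl⟩ := hxk
  obtain ⟨hN, hdep⟩ := depth_localization_eq k y hcm δ hδ
  haveI := hN
  haveI : ∀ j, Module.Finite R (P.X j) := fun j => (hp j).1
  rw [betti_eq_zero_iff D k P hP hp ε q y]
  refine exact_residue_below P y hP hp 0 (fun j hj => (subsingleton_stalk_iff D k P ε j y).1 (h j hj)) (δ - 1)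
    (fun N hN' => ?_) q (by omega)
  refine CAlgH3.pd_mono (by omega) (pd_le_depth δ 1 hdep.le (fun hnt => ?_) N hN')
  haveI := hnt
  refine one_le_depth_lcoker P y hp (hdep ▸ by exact_mod_cast hδ1) fun r hr x hx hrx => ?_
  haveI := PullPerf.preservesFiniteLimits_restrict k
  haveI := DQCoh.preservesFiniteColimits_tilde R
  obtain ⟨η⟩ := DQCoh.nonempty_homology_natIso (tilde.functor R) 0
  let c : (Scheme.Modules.restrictFunctor k).obj (DCoh.HD D 0) ≅ tilde (P.homology 0) :=
    (SuppOpen.hdMapIso (Scheme.Modules.restrictFunctor k) D 0).symm ≪≫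
      (homologyFunctor _ 0).mapIso ε.symm ≪≫ η.app _ ≪≫ (tilde.functor R).mapIso (DRingLib.HQ _ 0)
  obtain ⟨φ, E₁, hE₁, -, -⟩ := RefHullLib.exists_semilinear_restrict k (DCoh.HD D 0) y
  let L := ((DerSch.stalkFunctor _ y).mapIso c).toLinearEquiv
  let eH := FlatCxLib.cochainHomologyEquiv P (0 - 1) 0 (0 + 1) (by omega) rfl
  have hx0 : (P.d 0 (0 + 1)).hom x = 0 := by rw [zero_add]; exact hx
  let n : P.homology 0 := eH.symm (Submodule.Quotient.mk ⟨x, LinearMap.mem_ker.2 hx0⟩)
  let ι := (tilde.toStalk (P.homology 0) y).hom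
  have hclass : ∀ (s : y.asIdeal.primeCompl) (r' : R),
      (s : R) • r' • n = 0 ↔ s • r' • x ∈ LinearMap.range (P.d (0 - 1) 0).hom := fun s r' => by
    rw [Submonoid.smul_def, ← map_smul, ← map_smul, LinearEquiv.map_eq_zero_iff, ← Submodule.Quotient.mk_smul,
      ← Submodule.Quotient.mk_smul, Submodule.Quotient.mk_eq_zero]
    rfl
  obtain ⟨s₁, hs₁⟩ := hrx
  have ht : r • ι n = 0 := by
    have h1 : (s₁ : R) • ι (r • n) = 0 := by rw [← map_smul, (hclass s₁ r).2 hs₁, map_zero]
    rw [← map_smul]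
    rw [map_smul] at h1 ⊢
    exact ((Module.End.isUnit_iff _).1 (IsLocalizedModule.map_units ι s₁)).1 (h1.trans (map_zero _).symm)
  letI : Algebra R ((Spec R).presheaf.stalk y) := (StructureSheaf.toStalk R y).hom.toAlgebra
  haveI : IsLocalization.AtPrime ((Spec R).presheaf.stalk y) y.asIdeal := StructureSheaf.IsLocalization.to_stalk R y
  let ρ : (Spec R).presheaf.stalk y := algebraMap R _ r
  have htρ : ρ • ι n = 0 := ht
  have hρ : ρ ∈ nonZeroDivisors ((Spec R).presheaf.stalk y) := by
    let ψ := IsLocalization.algEquiv y.asIdeal.primeCompl (Localization.AtPrime y.asIdeal) ((Spec R).presheaf.stalk y)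
    have := MulEquivClass.map_nonZeroDivisors (ψ.toMulEquiv)
    rw [← this]
    exact ⟨algebraMap R _ r, hr, ψ.commutes r⟩
  have hφ : φ.symm ρ ∈ nonZeroDivisors ↑(X.presheaf.stalk (k y)) := by
    rw [← MulEquivClass.map_nonZeroDivisors φ.symm.toMulEquiv]
    exact ⟨ρ, hρ, rfl⟩
  have hz := htf _ hφ (E₁.symm (L.symm (ι n))) (E₁.injective (by
    rw [hE₁, E₁.apply_symm_apply, RingEquiv.apply_symm_apply, map_zero]
    exact (LinearEquiv.map_smul L.symm ρ (ι n)).symm.trans (by rw [htρ]; exact map_zero L.symm)))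
  have hιn : ι n = 0 := by
    exact L.symm.map_eq_zero_iff.1 (E₁.symm.map_eq_zero_iff.1 hz)
  obtain ⟨s, hs⟩ := (IsLocalizedModule.eq_zero_iff y.asIdeal.primeCompl ι).1 hιn
  exact ⟨s, by simpa using (hclass s 1).1 (by rw [one_smul]; exact hs)⟩

end Chart

end Groth.Agent.FMK16
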