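import Groth.Agent.Dual22Lib.PushPerf
import Groth.Agent.DCat.TensorCongr
import Groth.Agent.DCat.PerfTensor
import Groth.Agent.DCat.PullPerf
import Groth.Prelude.Def_DualFM

/-!
# Perfection of the transform of a perfect object
-/

set_option autoImplicit false
set_option backward.isDefEq.respectTransparency false
set_option backward.defeqAttrib.useBackward true
set_option linter.style.haveILetI false
set_option synthInstance.maxHeartbeats 100000

universe u

open CategoryTheory CategoryTheory.Limits CategoryTheory.Pretriangulated AlgebraicGeometry Opposite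
open Groth.Agent.DCat Groth.Agent.DCat.PerfLocal Groth.Agent.Dual22Lib.AdjGeom Groth.Agent.Dual22Lib
open Groth.Agent.Dual22Lib.PushPerf

attribute [local instance] HasDerivedCategory.standard
attribute [-instance] Int.instConditionallyCompleteLinearOrder

namespace Groth.Agent.FMK16

variable {X S : Scheme.{u}}

/-- Direct images of perfect objects under flat proper morphisms of locally Noetherian schemes are perfect. -/
theorem isPerfect_rpush_loc [IsLocallyNoetherian X] [IsLocallyNoetherian S] (f : X ⟶ S) [IsProper f] [Flat f] [DCoh.HasRpush f]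
    {G : DCoh.D X} (hG : DCoh.IsPerfect G) : DCoh.IsPerfect ((DCoh.Rpush f).obj G) := by
  refine DQCoh.isPerfect_of_local _ fun s => ?_
  obtain ⟨W, hW, hsW, -⟩ := exists_isAffineOpen_mem_and_subset (x := s) (U := (⊤ : S.Opens)) trivial
  refine ⟨W, W.ι, inferInstance, by simpa using hsW, ?_⟩
  haveI := PullPerf.preservesFiniteLimits_restrict W.ι
  haveI := PullPerf.preservesFiniteLimits_restrict (f ⁻¹ᵁ W).ι
  haveI := DCat.hasRpush (f ∣_ W)
  let G' := (DCoh.restrictD (f ⁻¹ᵁ W).ι).obj G
  refine PCTriangle.perfect_iso ((OpenDerived.rpushRestrictIso f W).app G).symm ?_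
  let R : CommRingCat.{u} := Γ(S, W)
  haveI : IsNoetherianRing R := IsLocallyNoetherian.component_noetherian ⟨W, hW⟩
  let e := hW.isoSpec
  haveI : IsLocallyNoetherian (f ⁻¹ᵁ W : Scheme.{u}) := inferInstance
  haveI : CompactSpace (f ⁻¹ᵁ W : Scheme.{u}) := isCompact_iff_compactSpace.1 (f.isCompact_preimage hW.isCompact)
  haveI : QuasiSeparatedSpace (f ⁻¹ᵁ W : Scheme.{u}) :=
    QuasiSeparatedSpace.of_isOpenEmbedding (f ⁻¹ᵁ W).ι.isOpenEmbedding
  haveI := DCat.hasRpush e.hom
  haveI := DCat.hasRpush ((f ∣_ W) ≫ e.hom)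
  have hp := isPerfect_rpush_spec R ((f ∣_ W) ≫ e.hom) (PerfLift.isPerfect_restrictD (f ⁻¹ᵁ W).ι hG)
  obtain ⟨c⟩ := DCat.nonempty_RpushComp (f ∣_ W) e.hom
  obtain ⟨r⟩ := PerfLocal.nonempty_rd_rpush e.hom ((DCoh.Rpush (f ∣_ W)).obj G')
  exact PCTriangle.perfect_iso r (PerfLift.isPerfect_restrictD e.hom (PCTriangle.perfect_iso (c.app G').symm hp))

/-- The transform of a perfect complex by a perfect kernel is perfect. -/
theorem isPerfect_phi (k : Type u) [Field k] {X Y : Scheme.{u}} (a : X ⟶ Spec (CommRingCat.of k))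
    (b : Y ⟶ Spec (CommRingCat.of k)) [IsProper a] [Flat a] [LocallyOfFiniteType b]
    (P : CochainComplex (pullback a b).Modules ℤ) (hP : DCoh.IsPerfect (DCoh.toD (pullback a b) P))
    [DCoh.HasLpull (pullback.fst a b)] [DCoh.HasLTensorCx P] [DCoh.HasRpush (pullback.snd a b)]
    (M : DCoh.D X) (hM : DCoh.IsPerfect M) :
    DCoh.IsPerfect ((DCoh.LTensorCx P).obj ((DCoh.Lpull (pullback.fst a b)).obj M)) ∧
      DCoh.IsPerfect ((FMK.phi a b P).obj M) := by
  let Z := pullback a b
  haveI : IsLocallyNoetherian Y := LocallyOfFiniteType.isLocallyNoetherian b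
  haveI : IsProper (pullback.snd a b) := inferInstance
  haveI : IsLocallyNoetherian Z := LocallyOfFiniteType.isLocallyNoetherian (pullback.snd a b)
  obtain ⟨P', hP', ⟨eP⟩⟩ := PullPerf.exists_kflat_rep (DCoh.toD Z P)
  haveI := LTensorSheaf.hasLTensorCx P'
  obtain ⟨cP⟩ := TensorCongr.nonempty_congr (E := P') (E' := P) eP
  have hG : DCoh.IsPerfect ((DCoh.LTensorCx P).obj ((DCoh.Lpull (pullback.fst a b)).obj M)) :=
    PCTriangle.perfect_iso (cP.app _)
      (PerfTensor.isPerfect_LTensor hP' (PCTriangle.perfect_iso eP.symm hP) _ (PullPerf.isPerfect_Lpull _ _ hM))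
  exact ⟨hG, isPerfect_rpush_loc (pullback.snd a b) hG⟩

end Groth.Agent.FMK16
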