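import Groth.Agent.FMK16.DualAmp
import Groth.Agent.FMK16.LocalAB
import Groth.Agent.FMK16.PhiPerf
import Groth.Agent.DCat.RHomBidual
import Groth.Agent.BCFlat16.Ten
import Groth.Agent.LocCoh.Gorenstein

/-!
# Cohomology sheaves of the dual of a perfect object, by the lowest nonvanishing stalk
-/

set_option autoImplicit false
set_option backward.isDefEq.respectTransparency false
set_option backward.defeqAttrib.useBackward true
set_option linter.style.haveILetI false
set_option linter.unusedSectionVars false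
set_option linter.unusedVariables false
set_option synthInstance.maxHeartbeats 100000
set_option backward.isDefEq.respectTransparency.types false

universe u

open CategoryTheory CategoryTheory.Limits AlgebraicGeometry DerivedCategory
open Groth.Agent.DCat

attribute [local instance] HasDerivedCategory.standard
attribute [-instance] Int.instConditionallyCompleteLinearOrder

namespace Groth.Agent.FMK16

variable {Y : Scheme.{u}}

theorem exists_dim {R : Type u} [CommRing R] [IsNoetherianRing R] [IsLocalRing R] : ∃ n : ℕ, ringKrullDim R = n :=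
  LocCoh.exists_dim_eq

/-- The transform commutes with shifts. -/
theorem nonempty_phi_shift (k : Type u) [Field k] {X Y : Scheme.{u}} (a : X ⟶ Spec (CommRingCat.of k))
    (b : Y ⟶ Spec (CommRingCat.of k)) (P : CochainComplex (pullback a b).Modules ℤ)
    [DCoh.HasLpull (pullback.fst a b)] [DCoh.HasLTensorCx P] [DCoh.HasRpush (pullback.snd a b)]
    (M : DCoh.D X) (n : ℤ) :
    Nonempty ((FMK.phi a b P).obj (M⟦n⟧) ≅ ((FMK.phi a b P).obj M)⟦n⟧) := by
  obtain ⟨c₁⟩ := BCFlat16.nonempty_map_shift (Dual22Lib.TenLocal.triExact_Lpull (pullback.fst a b)) M n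
  obtain ⟨c₂⟩ := BCFlat16.nonempty_map_shift (Dual22Lib.TenLocal.triExact_LTensor P)
    ((DCoh.Lpull (pullback.fst a b)).obj M) n
  obtain ⟨c₃⟩ := BCFlat16.nonempty_map_shift (Dual22Lib.TenLocal.triExact_Rpush (pullback.snd a b))
    ((DCoh.LTensorCx P).obj ((DCoh.Lpull (pullback.fst a b)).obj M)) n
  exact ⟨(DCoh.Rpush (pullback.snd a b)).mapIso ((DCoh.LTensorCx P).mapIso c₁ ≪≫ c₂) ≪≫ c₃⟩

/-- Stalks of isomorphic modules vanish together. -/
theorem subsingleton_stalk_of_iso {M N : Y.Modules} (c : M ≅ N) (y : Y)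
    (h : Subsingleton (M.presheaf.stalk y)) : Subsingleton (N.presheaf.stalk y) :=
  (((DerSch.stalkFunctor Y y).mapIso c).toLinearEquiv.toEquiv.subsingleton_congr).1 h

theorem subsingleton_stalk_of_isZero {M : Y.Modules} (h : IsZero M) (y : Y) : Subsingleton (M.presheaf.stalk y) :=
  SuppOpen.subsingleton_of_isZero_stalkFunctor _ y ((DerSch.stalkFunctor Y y).map_isZero h)

/-- A dual vanishes at a point in degrees above `dim 𝒪_y - e` if the object vanishes there below `e`. -/
theorem subsingleton_stalk_dual_of_below [∀ y : Y, DCoh.HasLpull (Y.fromSpecResidueField y)]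
    (K : CochainComplex Y.Modules ℤ) (hK : DCoh.IsPerfect (DerivedCategory.Q.obj K))
    [DCoh.HasLTensorCx K] [DCoh.HasRSheafHom K] (y : Y)
    (hcm : LocCoh.IsCohenMacaulayLocalRing ↑(Y.presheaf.stalk y)) (δ : ℕ)
    (hδ : ringKrullDim ↑(Y.presheaf.stalk y) = (δ : WithBot ℕ∞)) (e : ℤ)
    (h : ∀ q, q < e → Subsingleton ((DCoh.HD (DerivedCategory.Q.obj K) q).presheaf.stalk y)) (i : ℤ)
    (hi : (δ : ℤ) - e < i) :
    Subsingleton ((DCoh.HD ((DCoh.RSheafHom K).obj (DCoh.inD Y (Coh.structureModule Y))) i).presheaf.stalk y) :=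
  subsingleton_stalk_dual K hK y (e - δ) (betti_eq_zero_of_stalks_below _ hK y δ hcm hδ e h) i (by omega)

/-- An object whose dual is a torsion-free sheaf in degree `0` vanishes at `y` in degrees `≥ max 1 (dim 𝒪_y)`. -/
theorem subsingleton_stalk_of_dual_torsionFree [∀ y : Y, DCoh.HasLpull (Y.fromSpecResidueField y)]
    (K : CochainComplex Y.Modules ℤ) (hKf : IsKFlatFor (shT Y) K) (hK : DCoh.IsPerfect (DerivedCategory.Q.obj K))
    [DCoh.HasLTensorCx K] [DCoh.HasRSheafHom K] (G : Y.Modules)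
    (c : (DCoh.RSheafHom K).obj (DCoh.inD Y (Coh.structureModule Y)) ≅ DCoh.inD Y G)
    (y : Y) (htf : ∀ r : ↑(Y.presheaf.stalk y), r ∈ nonZeroDivisors ↑(Y.presheaf.stalk y) →
      ∀ m : ↑(G.presheaf.stalk y), r • m = 0 → m = 0)
    (hcm : LocCoh.IsCohenMacaulayLocalRing ↑(Y.presheaf.stalk y)) (δ : ℕ)
    (hδ : ringKrullDim ↑(Y.presheaf.stalk y) = (δ : WithBot ℕ∞)) (i : ℤ) (hi : 1 ≤ i) (hiδ : (δ : ℤ) ≤ i) :
    Subsingleton ((DCoh.HD (DerivedCategory.Q.obj K) i).presheaf.stalk y) := by
  let D := (DCoh.RSheafHom K).obj (DCoh.inD Y (Coh.structureModule Y))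
  have hD : DCoh.IsPerfect D := RHomDual.isPerfect_dual K hK
  have hlow : ∀ q, q < 0 → Subsingleton ((DCoh.HD D q).presheaf.stalk y) := fun q hq =>
    subsingleton_stalk_of_isZero (IsZero.of_iso (DerivedCategory.isZero_of_isGE (DCoh.inD Y G) 0 q hq)
      ((homologyFunctor _ q).mapIso c)) y
  have hb : ∀ q, q < min 0 (1 - (δ : ℤ)) → PerfD.betti D y q = 0 := by
    intro q hq
    rcases Nat.eq_zero_or_pos δ with h0 | h1
    · exact betti_eq_zero_of_stalks_below D hD y δ hcm hδ 0 hlow q (by subst h0; simp at hq ⊢; omega)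
    · refine betti_eq_zero_of_torsionFree D hD y δ hcm hδ h1 hlow (fun r hr m hm => ?_) q
        (lt_of_lt_of_le hq (min_le_right _ _))
      let cG : DCoh.HD D 0 ≅ G := (homologyFunctor _ 0).mapIso c ≪≫
        (DerivedCategory.singleFunctorCompHomologyFunctorIso Y.Modules 0).app G
      let l := ((DerSch.stalkFunctor Y y).mapIso cG).toLinearEquiv
      exact l.map_eq_zero_iff.1 (htf r hr (l m) ((LinearEquiv.map_smul l r m).symm.trans (by rw [hm]; exact map_zero l)))
  obtain ⟨N, hN, ⟨eN⟩⟩ := PullPerf.exists_kflat_rep D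
  haveI := LTensorSheaf.hasLTensorCx N
  haveI := RHomExist.hasRSheafHom N
  obtain ⟨β⟩ := RHomBidual.nonempty_bidual hKf hK hN eN
  have h := subsingleton_stalk_dual N (PCTriangle.perfect_iso eN.symm hD) y (min 0 (1 - (δ : ℤ)))
    (fun q hq => ?_) i (by omega)
  · exact subsingleton_stalk_of_iso ((homologyFunctor _ i).mapIso β).symm y h
  · rw [← hb q hq]
    exact DQCoh.finrank_top_congr ((homologyFunctor _ q).mapIso ((DCoh.Lpull (Y.fromSpecResidueField y)).mapIso eN))

end Groth.Agent.FMK16
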