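import Groth.Agent.DQCoh.BettiRank
import Groth.Agent.DCat.SuppOpen

/-!
# The top nonvanishing degree of a perfect object at a point
-/

set_option autoImplicit false
set_option backward.isDefEq.respectTransparency false
set_option backward.defeqAttrib.useBackward true
set_option linter.style.haveILetI false
set_option synthInstance.maxHeartbeats 100000
set_option linter.unusedVariables false
set_option backward.isDefEq.respectTransparency.types false

universe u

open CategoryTheory CategoryTheory.Limits AlgebraicGeometry TopologicalSpace Opposite DerivedCategory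
open Groth.Agent.DCat Groth.Agent.Coherent
open scoped TensorProduct

attribute [local instance] HasDerivedCategory.standard
attribute [-instance] Int.instConditionallyCompleteLinearOrder

namespace Groth.Agent.FMK16

section Regular

variable {A : Type u} [CommRing A] {F G H : Type u} [AddCommGroup F] [Module A F] [AddCommGroup G] [Module A G]
  [AddCommGroup H] [Module A H]

/-- A linear map with a generalized inverse. -/
def Regular (f : F →ₗ[A] G) : Prop := ∃ t : G →ₗ[A] F, f ∘ₗ t ∘ₗ f = f

theorem regular_step [Module.Projective A G] {f : F →ₗ[A] G} {g : G →ₗ[A] H} (hex : Function.Exact f g)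
    (hg : Regular g) : Regular f ∧
      ∀ (L : Type u) [CommRing L] [Algebra A L], Function.Exact (f.baseChange L) (g.baseChange L) := by
  obtain ⟨t, ht⟩ := hg
  let e : G →ₗ[A] G := LinearMap.id - t ∘ₗ g
  have he : ∀ x, e x ∈ LinearMap.range f := fun x => (hex (e x)).1 (by
    have := LinearMap.congr_fun ht x
    simp only [LinearMap.comp_apply] at this
    simp [e, this])
  obtain ⟨s, hs⟩ := Module.projective_lifting_property f.rangeRestrict (e.codRestrict _ he)
    (LinearMap.surjective_rangeRestrict f)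
  have hfs : f ∘ₗ s = e := by
    ext x
    exact congrArg Subtype.val (LinearMap.congr_fun hs x)
  have hgf : g ∘ₗ f = 0 := LinearMap.ext fun x => (hex (f x)).2 ⟨x, rfl⟩
  refine ⟨⟨s, ?_⟩, fun L _ _ z => ⟨fun hz => ⟨s.baseChange L z, ?_⟩, ?_⟩⟩
  · rw [← LinearMap.comp_assoc, hfs, LinearMap.sub_comp, LinearMap.comp_assoc, hgf, LinearMap.comp_zero, sub_zero,
      LinearMap.id_comp]
  · rw [← LinearMap.comp_apply, ← LinearMap.baseChange_comp, hfs, LinearMap.baseChange_sub, LinearMap.sub_apply,
      LinearMap.baseChange_id, LinearMap.id_apply, LinearMap.baseChange_comp, LinearMap.comp_apply, hz, map_zero,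
      sub_zero]
  · rintro ⟨w, rfl⟩
    rw [← LinearMap.comp_apply, ← LinearMap.baseChange_comp, hgf, LinearMap.baseChange_zero, LinearMap.zero_apply]

theorem exact_baseChange_trans {B L : Type u} [CommRing B] [CommRing L] [Algebra A B] [Algebra A L] [Algebra B L]
    [IsScalarTower A B L] (f : F →ₗ[A] G) (g : G →ₗ[A] H) :
    Function.Exact ((f.baseChange B).baseChange L) ((g.baseChange B).baseChange L) ↔
      Function.Exact (f.baseChange L) (g.baseChange L) := by
  have sq : ∀ {M N : Type u} [AddCommGroup M] [Module A M] [AddCommGroup N] [Module A N] (h : M →ₗ[A] N),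
      (h.baseChange L) ∘ₗ (TensorProduct.AlgebraTensorModule.cancelBaseChange A B L L M).toLinearMap =
        (TensorProduct.AlgebraTensorModule.cancelBaseChange A B L L N).toLinearMap ∘ₗ (h.baseChange B).baseChange L := by
    intro M N _ _ _ _ h
    ext x
    simp
  refine (Function.Exact.iff_of_ladder_linearEquiv (e₁ := TensorProduct.AlgebraTensorModule.cancelBaseChange A B L L F)
    (e₂ := TensorProduct.AlgebraTensorModule.cancelBaseChange A B L L G)
    (e₃ := TensorProduct.AlgebraTensorModule.cancelBaseChange A B L L H) (sq f) (sq g)).symm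

/-- Exactness after localization, elementwise. -/
theorem exact_localization_iff (S : Submonoid A) {B : Type u} [CommRing B] [Algebra A B] [IsLocalization S B]
    (f : F →ₗ[A] G) (g : G →ₗ[A] H) (hgf : g ∘ₗ f = 0) :
    Function.Exact (f.baseChange B) (g.baseChange B) ↔ ∀ x, g x = 0 → ∃ s : S, s • x ∈ LinearMap.range f := by
  let π : ∀ (M : Type u) [AddCommGroup M] [Module A M], M →ₗ[A] B ⊗[A] M := fun M _ _ => TensorProduct.mk A B M 1
  haveI : ∀ (M : Type u) [AddCommGroup M] [Module A M], IsLocalizedModule S (π M) := fun M _ _ =>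
    (isLocalizedModule_iff_isBaseChange S B _).2 (TensorProduct.isBaseChange A M B)
  have hnat : ∀ {M N : Type u} [AddCommGroup M] [Module A M] [AddCommGroup N] [Module A N] (h : M →ₗ[A] N) (x : M),
      h.baseChange B (π M x) = π N (h x) := fun h x => LinearMap.baseChange_tmul _ _ _
  refine ⟨fun hex x hx => ?_, fun hel z => ⟨fun hz => ?_, ?_⟩⟩
  · obtain ⟨w, hw⟩ := (hex (π G x)).1 (by rw [hnat, hx, map_zero])
    obtain ⟨⟨w', s⟩, hs⟩ := IsLocalizedModule.surj S (π F) w
    have h1 : π G (f w') = π G (s • x) := by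
      rw [← hnat, ← hs, LinearMap.map_smul_of_tower, hw]
      exact ((π G).map_smul_of_tower s x).symm
    obtain ⟨c, hc⟩ := IsLocalizedModule.exists_of_eq (S := S) h1
    refine ⟨c * s, c • w', ?_⟩
    rw [mul_smul, ← hc, LinearMap.map_smul_of_tower]
  · obtain ⟨⟨x, s⟩, hs⟩ := IsLocalizedModule.surj S (π G) z
    have h1 : π H (g x) = π H 0 := by
      rw [map_zero, ← hnat, ← hs, LinearMap.map_smul_of_tower, hz, smul_zero]
    obtain ⟨c, hc⟩ := IsLocalizedModule.exists_of_eq (S := S) h1
    obtain ⟨e, w, hw⟩ := hel (c • x) (by rw [LinearMap.map_smul_of_tower, hc, smul_zero])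
    have hu : IsUnit (algebraMap A B ((e : A) * c * s)) :=
      IsLocalization.map_units B ⟨_, S.mul_mem (S.mul_mem e.2 c.2) s.2⟩
    have h2 : f.baseChange B (π F w) = algebraMap A B ((e : A) * c * s) • z := by
      rw [hnat, hw, LinearMap.map_smul_of_tower, LinearMap.map_smul_of_tower, ← hs, algebraMap_smul,
        Submonoid.smul_def, Submonoid.smul_def, Submonoid.smul_def, smul_smul, smul_smul]
    refine ⟨(hu.unit⁻¹ : Bˣ) • π F w, ?_⟩
    rw [Units.smul_def, map_smul, h2, smul_smul, IsUnit.val_inv_mul, one_smul]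
  · rintro ⟨w, rfl⟩
    rw [← LinearMap.comp_apply, ← LinearMap.baseChange_comp, hgf, LinearMap.baseChange_zero, LinearMap.zero_apply]

end Regular

section Local

variable {R : Type u} [CommRing R] (P : DRing.Cx R) (y : PrimeSpectrum R)

/-- The differential after localization at a prime. -/
noncomputable def dA (p q : ℤ) :
    Localization.AtPrime y.asIdeal ⊗[R] P.X p →ₗ[Localization.AtPrime y.asIdeal]
      Localization.AtPrime y.asIdeal ⊗[R] P.X q :=
  (P.d p q).hom.baseChange _

/-- Exactness above a degree passes between a prime and its residue field. -/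
theorem exact_above_iff {a b : ℤ} (hP : DRing.VanishesOutside P a b) (hp : DRing.TermwiseFiniteProjective P) (i : ℤ) :
    (∀ j : ℤ, i ≤ j → Function.Exact ((P.d (j - 1) j).hom.baseChange (Localization.AtPrime y.asIdeal))
        ((P.d j (j + 1)).hom.baseChange (Localization.AtPrime y.asIdeal))) ↔
      (∀ j : ℤ, i ≤ j → Function.Exact ((P.d (j - 1) j).hom.baseChange y.asIdeal.ResidueField)
        ((P.d j (j + 1)).hom.baseChange y.asIdeal.ResidueField)) := by
  let A := Localization.AtPrime y.asIdeal
  haveI : ∀ j, Module.Finite R (P.X j) := fun j => (hp j).1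
  haveI : ∀ j, Module.Projective R (P.X j) := fun j => (hp j).2
  refine ⟨fun h => ?_, fun h j hj => ?_⟩
  · have hreg : ∀ n : ℕ, ∀ j : ℤ, i ≤ j → b < j + n → Regular ((P.d (j - 1) j).hom.baseChange A) := by
      intro n
      induction n with
      | zero =>
        intro j hj hb
        refine ⟨0, ?_⟩
        rw [(hP j (Or.inr (by omega))).eq_of_tgt (P.d (j - 1) j) 0]
        simp
      | succ n ih =>
        intro j hj hb
        have h1 := ih (j + 1) (by omega) (by push_cast at hb; omega)
        rw [add_sub_cancel_right] at h1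
        exact (regular_step (h j hj) h1).1
    intro j hj
    obtain ⟨n, hn⟩ : ∃ n : ℕ, b < j + 1 + n := ⟨(b - j).toNat, by omega⟩
    have h1 := hreg n (j + 1) (by omega) hn
    rw [add_sub_cancel_right] at h1
    exact (exact_baseChange_trans (B := A) _ _).1 ((regular_step (h j hj) h1).2 y.asIdeal.ResidueField)
  · have hgf : (P.d j (j + 1)).hom.baseChange A ∘ₗ (P.d (j - 1) j).hom.baseChange A = 0 := by
      rw [← LinearMap.baseChange_comp, ← ModuleCat.hom_comp, P.d_comp_d, ModuleCat.hom_zero, LinearMap.baseChange_zero]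
    have h1 := DRingLib.exact_rTensor _ _ hgf (fun m hm => ?_) A
    · exact (Function.Exact.iff_of_ladder_linearEquiv (e₁ := TensorProduct.rid A _) (e₂ := TensorProduct.rid A _)
        (e₃ := TensorProduct.rid A _) (by ext x; simp; rfl) (by ext x; simp; rfl)).2 h1
    · obtain rfl := IsLocalRing.eq_maximalIdeal hm
      exact (exact_baseChange_trans (B := A) _ _).2 (h j hj)

theorem exact_iff_subsingleton_homologyQuot {A' : Type u} [CommRing A'] {F G H : Type u} [AddCommGroup F]
    [Module A' F] [AddCommGroup G] [Module A' G] [AddCommGroup H] [Module A' H] (f : F →ₗ[A'] G) (g : G →ₗ[A'] H)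
    (hgf : g ∘ₗ f = 0) : Function.Exact f g ↔ Subsingleton (FlatCxLib.homologyQuot f g) := by
  refine ⟨fun h => ⟨fun a b => ?_⟩, fun h z => ⟨fun hz => ?_, ?_⟩⟩
  · obtain ⟨x, rfl⟩ := Submodule.Quotient.mk_surjective _ a
    obtain ⟨y', rfl⟩ := Submodule.Quotient.mk_surjective _ b
    exact (Submodule.Quotient.eq _).2 ((h _).1 (x - y').2)
  · exact (Submodule.Quotient.mk_eq_zero _).1
      (Subsingleton.elim (Submodule.Quotient.mk (⟨z, hz⟩ : LinearMap.ker g) : FlatCxLib.homologyQuot f g) 0)
  · rintro ⟨w, rfl⟩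
    exact LinearMap.congr_fun hgf w

theorem d_comp_d_baseChange (L : Type u) [CommRing L] [Algebra R L] (j : ℤ) :
    (P.d j (j + 1)).hom.baseChange L ∘ₗ (P.d (j - 1) j).hom.baseChange L = 0 := by
  rw [← LinearMap.baseChange_comp, ← ModuleCat.hom_comp, P.d_comp_d, ModuleCat.hom_zero, LinearMap.baseChange_zero]

/-- Homology vanishes at a prime iff the localized complex is exact. -/
theorem exact_localized_iff_homology (j : ℤ) :
    Function.Exact ((P.d (j - 1) j).hom.baseChange (Localization.AtPrime y.asIdeal))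
        ((P.d j (j + 1)).hom.baseChange (Localization.AtPrime y.asIdeal)) ↔
      ∀ n : P.homology j, ∃ s : y.asIdeal.primeCompl, s • n = 0 := by
  rw [exact_localization_iff y.asIdeal.primeCompl _ _
    (by rw [← ModuleCat.hom_comp, P.d_comp_d, ModuleCat.hom_zero])]
  let e := FlatCxLib.cochainHomologyEquiv P (j - 1) j (j + 1) (by omega) rfl
  have hzero : ∀ (x : LinearMap.ker (P.d j (j + 1)).hom) (s : y.asIdeal.primeCompl),
      s • e.symm (Submodule.Quotient.mk x) = 0 ↔ s • (x : P.X j) ∈ LinearMap.range (P.d (j - 1) j).hom := by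
    intro x s
    rw [Submonoid.smul_def, Submonoid.smul_def, ← map_smul, LinearEquiv.map_eq_zero_iff,
      ← Submodule.Quotient.mk_smul, Submodule.Quotient.mk_eq_zero]
    rfl
  refine ⟨fun h n => ?_, fun h x hx => ?_⟩
  · obtain ⟨x, hx⟩ := Submodule.Quotient.mk_surjective _ (e n)
    obtain ⟨s, hs⟩ := h x x.2
    refine ⟨s, ?_⟩
    rw [← e.symm_apply_apply n, ← hx]
    exact (hzero x s).2 hs
  · obtain ⟨s, hs⟩ := h (e.symm (Submodule.Quotient.mk ⟨x, hx⟩))
    exact ⟨s, (hzero ⟨x, hx⟩ s).1 hs⟩

end Local

variable {X : Scheme.{u}}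

/-- Stalks of cohomology sheaves on a chart. -/
theorem subsingleton_stalk_iff (E : DCoh.D X) {R : CommRingCat.{u}} [PreservesFiniteLimits (tilde.functor R)]
    (k : Spec R ⟶ X) [IsOpenImmersion k] (P : DRing.Cx R)
    (e : (DCoh.tildeD R).obj (DRing.toD P) ≅ (PerfLocal.rd k).obj E) (j : ℤ) (y : Spec R) :
    Subsingleton ((DCoh.HD E j).presheaf.stalk (k y)) ↔
      Function.Exact ((P.d (j - 1) j).hom.baseChange (Localization.AtPrime y.asIdeal))
        ((P.d j (j + 1)).hom.baseChange (Localization.AtPrime y.asIdeal)) := by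
  haveI := PullPerf.preservesFiniteLimits_restrict k
  haveI := DQCoh.preservesFiniteColimits_tilde R
  obtain ⟨η⟩ := DQCoh.nonempty_homology_natIso (tilde.functor R) j
  let c : (Scheme.Modules.restrictFunctor k).obj (DCoh.HD E j) ≅ tilde (P.homology j) :=
    (SuppOpen.hdMapIso (Scheme.Modules.restrictFunctor k) E j).symm ≪≫
      (homologyFunctor _ j).mapIso e.symm ≪≫ η.app _ ≪≫ (tilde.functor R).mapIso (DRingLib.HQ _ j)
  let φ := ((DerSch.stalkFunctor _ y).mapIso c).toLinearEquiv.toEquiv
  have h1 : Subsingleton ((DCoh.HD E j).presheaf.stalk (k y)) ↔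
      Subsingleton ((tilde (P.homology j)).presheaf.stalk y) :=
    ⟨fun h => φ.subsingleton_congr.1 (SuppOpen.subsingleton_stalk_restrict k _ y h),
      fun h => SuppOpen.subsingleton_stalk_of_restrict k _ y (φ.subsingleton_congr.2 h)⟩
  rw [h1, exact_localized_iff_homology P y j]
  refine (IsLocalizedModule.subsingleton_iff y.asIdeal.primeCompl (tilde.toStalk (P.homology j) y).hom).trans ?_
  exact forall_congr' fun m => ⟨fun ⟨r, hr, h⟩ => ⟨⟨r, hr⟩, h⟩, fun ⟨s, h⟩ => ⟨s, s.2, h⟩⟩

/-- Fibre dimensions on a chart. -/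
theorem betti_eq_zero_iff [∀ x : X, DCoh.HasLpull (X.fromSpecResidueField x)] (E : DCoh.D X) {R : CommRingCat.{u}}
    [PreservesFiniteLimits (tilde.functor R)]
    (k : Spec R ⟶ X) [IsOpenImmersion k] (P : DRing.Cx R) {a b : ℤ} (hP : DRing.VanishesOutside P a b)
    (hp : DRing.TermwiseFiniteProjective P)
    (e : (DCoh.tildeD R).obj (DRing.toD P) ≅ (PerfLocal.rd k).obj E) (j : ℤ) (y : Spec R) :
    PerfD.betti E (k y) j = 0 ↔
      Function.Exact ((P.d (j - 1) j).hom.baseChange y.asIdeal.ResidueField)
        ((P.d j (j + 1)).hom.baseChange y.asIdeal.ResidueField) := by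
  let L := y.asIdeal.ResidueField
  have hy : PrimeSpectrum.comap (algebraMap R L) ⊥ = y := by
    refine PrimeSpectrum.ext ?_
    rw [PrimeSpectrum.comap_asIdeal]
    exact Ideal.ker_algebraMap_residueField y.asIdeal
  have h1 := DQCoh.betti_formula E k hP hp (j - 1) e.hom (PullPerf.apx_of_isIso _ _) j (by omega) y
  have h2 := DQCoh.finrank_extend_field P hp L (algebraMap R L) y hy j
  have h3 := FlatCxLib.finrank_extend_cochain (B := L) P (j - 1) j (j + 1) (by omega) rfl
  haveI : Module.Finite R (P.X j) := (hp j).1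
  rw [exact_iff_subsingleton_homologyQuot _ _ (d_comp_d_baseChange P L j), ← Module.finrank_zero_iff (R := L)]
  omega

/-- The top nonvanishing degree at a point is the top nonvanishing degree of the fibre. -/
theorem stalks_above_iff_betti [∀ x : X, DCoh.HasLpull (X.fromSpecResidueField x)] (E : DCoh.D X)
    (hE : DCoh.IsPerfect E) (x : X) (i : ℤ) :
    (∀ j : ℤ, i ≤ j → Subsingleton ((DCoh.HD E j).presheaf.stalk x)) ↔
      (∀ j : ℤ, i ≤ j → PerfD.betti E x j = 0) := by
  obtain ⟨R, _, k, _, P, a, b, hxk, hP, hp, ⟨e⟩⟩ := DQCoh.exists_affine_perfect hE x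
  obtain ⟨y, rfl⟩ := hxk
  simp only [subsingleton_stalk_iff E k P e, betti_eq_zero_iff E k P hP hp e]
  exact exact_above_iff P y hP hp i

end Groth.Agent.FMK16
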