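import Groth.Agent.FMK16.ModelRange
import Groth.Agent.FMK16.TopDegree
import Groth.Agent.ModStalk.Exact
import Groth.Agent.CycLib28.StalkLocal
import Groth.Agent.LocCoh.Depth
import Groth.Agent.LocCoh.Gorenstein
import Groth.Agent.CommAlg6.DepthAcyclic
import Groth.Agent.RefHullLib.Restrict
import Groth.Agent.CAlgH3.Depth

/-!
# Vanishing of `RHom(K, M)` in low degrees for `M` of full depth (derived acyclicity lemma)
-/

set_option autoImplicit false
set_option backward.isDefEq.respectTransparency false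
set_option backward.defeqAttrib.useBackward true
set_option linter.style.haveILetI false
set_option linter.unusedSectionVars false
set_option linter.unusedVariables false
set_option synthInstance.maxHeartbeats 100000
set_option backward.isDefEq.respectTransparency.types false

universe u

open CategoryTheory CategoryTheory.Limits CategoryTheory.Pretriangulated DerivedCategory Opposite TopologicalSpace AlgebraicGeometry
open HomologicalComplex
open Groth.Agent.DCat Groth.Agent.Coherent Groth.Agent.DCat.PerfLocal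

attribute [local instance] HasDerivedCategory.standard
attribute [-instance] Int.instConditionallyCompleteLinearOrder

namespace Groth.Agent.FMK16

variable {X : Scheme.{u}} [IsLocallyNoetherian X]

/-- The stalk of a derived object. -/
noncomputable abbrev St (w : X) : DCoh.D X ⥤ DerivedCategory (ModuleCat.{u} (X.presheaf.stalk w)) :=
  (DerSch.stalkFunctor X w).mapDerivedCategory

/-- The residue field at a point. -/
noncomputable abbrev kap (w : X) : ModuleCat.{u} (X.presheaf.stalk w) :=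
  ModuleCat.of _ (X.presheaf.stalk w ⧸ IsLocalRing.maximalIdeal (X.presheaf.stalk w))

/-- No maps from the residue field in degree `q`. -/
def NoHom (w : X) (L : DCoh.D X) (q : ℤ) : Prop :=
  ∀ φ : (DerivedCategory.singleFunctor _ q).obj (kap w) ⟶ (St w).obj L, φ = 0

theorem noHom_of_iso {w : X} {L L' : DCoh.D X} {q : ℤ} (e : L ≅ L') (h : NoHom w L q) : NoHom w L' q := fun φ => by
  have h1 := h (φ ≫ (St w).map e.inv)
  rw [← cancel_mono ((St w).map e.inv), h1, zero_comp]

theorem noHom_of_isZero {w : X} {L : DCoh.D X} (q : ℤ) (h : IsZero L) : NoHom w L q :=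
  fun φ => ((St w).map_isZero h).eq_of_tgt _ _

theorem noHom_shift_inD (w : X) (M : X.Modules) [Module.Finite (X.presheaf.stalk w) (M.presheaf.stalk w)] (δ : ℕ)
    (hM : (δ : ℕ∞) ≤ LocCoh.depth (X.presheaf.stalk w) (M.presheaf.stalk w)) (p q : ℤ) (h : q + p < δ) :
    NoHom w ((DCoh.inD X M)⟦p⟧) q := by
  let A := ModuleCat.{u} (X.presheaf.stalk w)
  let F := DerSch.stalkFunctor X w
  have key : ∀ ψ : (DerivedCategory.singleFunctor A 0).obj (kap w) ⟶
      ((DerivedCategory.singleFunctor A 0).obj (F.obj M))⟦q + p⟧, ψ = 0 := by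
    intro ψ
    rcases lt_or_ge (q + p) 0 with hneg | hpos
    · haveI : (((DerivedCategory.singleFunctor A 0).obj (F.obj M))⟦q + p⟧).IsGE (0 - (q + p)) :=
        DerivedCategory.TStructure.t.isGE_shift _ 0 (q + p) (0 - (q + p)) (by omega)
      exact DerivedCategory.TStructure.t.zero_of_isLE_of_isGE ψ 0 (0 - (q + p)) (by omega)
        inferInstance inferInstance
    · obtain ⟨n, hn⟩ : ∃ n : ℕ, q + p = n := ⟨(q + p).toNat, by omega⟩
      have hs := (Groth.Agent.LocCoh.natCast_le_idealDepth_iff_ext (IsLocalRing.maximalIdeal (X.presheaf.stalk w))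
        (M.presheaf.stalk w) δ).1 hM n (by omega)
      haveI : Subsingleton (Abelian.Ext (kap w) (F.obj M) n) := hs
      revert ψ
      rw [hn]
      intro ψ
      haveI : Subsingleton (ShiftedHom ((DerivedCategory.singleFunctor A 0).obj (kap w))
          ((DerivedCategory.singleFunctor A 0).obj (F.obj M)) (n : ℤ)) :=
        (Abelian.Ext.homEquiv (X := kap w) (Y := F.obj M) (n := n)).symm.subsingleton
      exact Subsingleton.elim (α := ShiftedHom _ _ _) _ _
  intro φ
  let e₁ : ((DerivedCategory.singleFunctor A q).obj (kap w))⟦q⟧ ≅ (DerivedCategory.singleFunctor A 0).obj (kap w) :=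
    ((DerivedCategory.singleFunctors A).shiftIso q 0 q (by omega)).app _
  let e₀ : (St w).obj (DCoh.inD X M) ≅ (DerivedCategory.singleFunctor A 0).obj (F.obj M) :=
    (St w).mapIso ((DerivedCategory.singleFunctorIsoCompQ X.Modules 0).app M) ≪≫
      F.mapDerivedCategoryFactors.app _ ≪≫
      DerivedCategory.Q.mapIso ((singleMapHomologicalComplex F (ComplexShape.up ℤ) 0).app M) ≪≫
      ((DerivedCategory.singleFunctorIsoCompQ A 0).app _).symm
  let e₂ : ((St w).obj ((DCoh.inD X M)⟦p⟧))⟦q⟧ ≅ ((DerivedCategory.singleFunctor A 0).obj (F.obj M))⟦q + p⟧ :=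
    (shiftFunctor _ q).mapIso (((St w).commShiftIso p).app _ ≪≫ (shiftFunctor _ p).mapIso e₀) ≪≫
      ((shiftFunctorAdd' _ p q (q + p) (by omega)).app _).symm
  have h1 := key (e₁.inv ≫ φ⟦q⟧' ≫ e₂.hom)
  refine (shiftFunctor _ q).map_injective ?_
  rw [Functor.map_zero, ← cancel_mono e₂.hom, ← cancel_epi e₁.inv, h1, zero_comp, comp_zero]

/-- `RHom(E, M)` has no maps from the residue field in degrees `< δ - m` when `E` lives in degrees `≤ m`. -/
def Low (E : CochainComplex X.Modules ℤ) (M : X.Modules) (w : X) (δ : ℕ) : Prop :=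
  IsKFlatFor (shT X) E ∧ ∀ (m : ℤ), (∀ n, m < n → IsZero (E.X n)) →
    ∀ (_ : DCoh.HasLTensorCx E) (_ : DCoh.HasRSheafHom E) (q : ℤ), q + m < δ →
      NoHom w ((DCoh.RSheafHom E).obj (DCoh.inD X M)) q

variable {M : X.Modules} {w : X} {δ : ℕ}

theorem low_of_iso {E E' : CochainComplex X.Modules ℤ} (e : E ≅ E') (h : Low E M w δ) : Low E' M w δ := by
  refine ⟨h.1.of_iso e, fun m hm i₁ i₂ q hq => ?_⟩
  haveI := LTensorSheaf.hasLTensorCx E
  haveI := RHomExist.hasRSheafHom E
  haveI := i₁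
  haveI := i₂
  obtain ⟨a⟩ := TensorCongr.nonempty_congr_rhom (E := E) (E' := E') (DerivedCategory.Q.mapIso e)
  exact noHom_of_iso (a.app _)
    (h.2 m (fun n hn => (hm n hn).of_iso ((HomologicalComplex.eval _ _ n).mapIso e)) inferInstance inferInstance q hq)

theorem low_of_isZero {E : CochainComplex X.Modules ℤ} (hE : IsZero E) : Low E M w δ :=
  ⟨isKFlatFor_of_isZero hE, fun m _ i₁ i₂ q _ => by
    haveI := i₁
    haveI := i₂
    let L := DCoh.inD X M
    let Y := (DCoh.RSheafHom E).obj L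
    let A := DerivedCategory.Q.objPreimage Y
    have hz : IsZero ((DCoh.LTensorCx E).obj Y) :=
      (DerivedCategory.Q.map_isZero (((shT X).map₂CochainComplex.obj A).map_isZero hE)).of_iso
        ((DCoh.LTensorCx E).mapIso (DerivedCategory.Q.objObjPreimageIso Y).symm ≪≫
          LTensorSheaf.ltensorCxIso' (isKFlatFor_of_isZero hE) A)
    exact noHom_of_isZero q
      ((IsZero.iff_id_eq_zero _).2 (((DCoh.RSheafHomAdj E).homEquiv Y L).symm.injective (hz.eq_of_src _ _)))⟩

theorem low_ext (S : ShortComplex (CochainComplex X.Modules ℤ))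
    (hS : ∀ n, Nonempty ((S.map (HomologicalComplex.eval X.Modules (ComplexShape.up ℤ) n)).Splitting))
    (h₁ : Low S.X₁ M w δ) (h₃ : Low S.X₃ M w δ) : Low S.X₂ M w δ := by
  have h₂ : IsKFlatFor (shT X) S.X₂ :=
    IsKFlatFor.ext₂ (fun a q => ((hS q).some.map ((shT X).obj a)).shortExact) h₁.1 h₃.1
  refine ⟨h₂, fun m hm i₁ i₂ q hq => ?_⟩
  haveI := i₁
  haveI := i₂
  haveI := LTensorSheaf.hasLTensorCx S.X₁
  haveI := RHomExist.hasRSheafHom S.X₁
  haveI := LTensorSheaf.hasLTensorCx S.X₃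
  haveI := RHomExist.hasRSheafHom S.X₃
  have hm₁ : ∀ n, m < n → IsZero (S.X₁.X n) := fun n hn => (IsZero.iff_id_eq_zero _).2
    ((hS n).some.f_r.symm.trans (by rw [(hm n hn).eq_of_src (hS n).some.r 0, comp_zero]))
  have hm₃ : ∀ n, m < n → IsZero (S.X₃.X n) := fun n hn => (IsZero.iff_id_eq_zero _).2
    ((hS n).some.s_g.symm.trans (by rw [(hm n hn).eq_of_tgt (hS n).some.s 0, zero_comp]))
  obtain ⟨a, b, d, hT⟩ := RHomSeq.exists_nat_triangle (shT X) (DCoh.tensorCx (X := X)) rfl S hS
    (TensorCongr.fac h₁.1) (TensorCongr.fac h₂) (TensorCongr.fac h₃.1)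
  let L := DCoh.inD X M
  let κq := (DerivedCategory.singleFunctor (ModuleCat.{u} (X.presheaf.stalk w)) q).obj (kap w)
  let H := St w ⋙ preadditiveCoyoneda.obj (Opposite.op κq)
  have hz : ∀ T, NoHom w T q → IsZero (H.obj T) := fun T hT => by
    haveI : Subsingleton (H.obj T) := ⟨fun x y => (hT x).trans (hT y).symm⟩
    exact AddCommGrpCat.isZero_of_subsingleton _
  have hex := (RHomSeq.exact_of_hom_exact H _ _
    (RHomSeq.Rg_Rf (DCoh.RSheafHomAdj S.X₁) (DCoh.RSheafHomAdj S.X₂) (DCoh.RSheafHomAdj S.X₃) a b d hT L)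
    fun _ g hg => RHomSeq.exact₂ (DCoh.RSheafHomAdj S.X₁) (DCoh.RSheafHomAdj S.X₂) (DCoh.RSheafHomAdj S.X₃) a b d hT L g hg).isZero_of_both_zeros
      ((hz _ (h₃.2 m hm₃ inferInstance inferInstance q hq)).eq_of_src _ _)
      ((hz _ (h₁.2 m hm₁ inferInstance inferInstance q hq)).eq_of_tgt _ _)
  intro φ
  haveI := AddCommGrpCat.subsingleton_of_isZero hex
  exact Subsingleton.elim (α := (H.obj ((DCoh.RSheafHom S.X₂).obj L) : Type _)) φ 0

theorem low_structure [Module.Finite (X.presheaf.stalk w) (M.presheaf.stalk w)] (hM : (δ : ℕ∞) ≤ LocCoh.depth (X.presheaf.stalk w) (M.presheaf.stalk w)) (p : ℤ) :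
    Low ((single X.Modules (ComplexShape.up ℤ) p).obj (Coh.structureModule X)) M w δ := by
  let E₀ := (single X.Modules (ComplexShape.up ℤ) 0).obj (Coh.structureModule X)
  have hk : IsKFlatFor (shT X) E₀ := RHomLeft.isKFlatFor_structure X
  let e : E₀⟦-p⟧ ≅ (single X.Modules (ComplexShape.up ℤ) p).obj (Coh.structureModule X) :=
    ((CochainComplex.singleFunctors X.Modules).shiftIso (-p) p 0 (by omega)).app _
  refine ⟨(hk.shift (-p)).of_iso e, fun m hm i₁ i₂ q hq => ?_⟩
  haveI := LTensorSheaf.hasLTensorCx E₀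
  haveI := RHomExist.hasRSheafHom E₀
  haveI := LTensorSheaf.hasLTensorCx (E₀⟦-p⟧)
  haveI := RHomExist.hasRSheafHom (E₀⟦-p⟧)
  haveI := i₁
  haveI := i₂
  obtain ⟨a⟩ := TensorCongr.nonempty_congr_rhom (E := E₀⟦-p⟧)
    (E' := (single X.Modules (ComplexShape.up ℤ) p).obj (Coh.structureModule X)) (DerivedCategory.Q.mapIso e)
  obtain ⟨s⟩ := RHomLeft.nonempty_RHom_shift E₀ hk (-p)
  obtain ⟨o⟩ := RHomLeft.nonempty_RHom_structure (X := X)
  rcases lt_or_ge m p with hp | hp
  · have hO : IsZero (Coh.structureModule X) :=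
      (hm p hp).of_iso (singleObjXSelf (ComplexShape.up ℤ) p (Coh.structureModule X)).symm
    exact (low_of_isZero ((single X.Modules (ComplexShape.up ℤ) p).map_isZero hO)).2 m hm i₁ i₂ q hq
  · exact noHom_of_iso ((o.app _).symm ≪≫ (s.app (DCoh.inD X M)).symm ≪≫ a.app _)
      (noHom_shift_inD w M δ hM (- -p) q (by omega))

theorem low_bounded [Module.Finite (X.presheaf.stalk w) (M.presheaf.stalk w)] (hM : (δ : ℕ∞) ≤ LocCoh.depth (X.presheaf.stalk w) (M.presheaf.stalk w))
    (E : CochainComplex X.Modules ℤ) {a b : ℤ} (hE : DCoh.VanishesOutside E a b)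
    (hfree : ∀ i, ∃ n, Nonempty (E.X i ≅ FlatMod.freeMod X n)) : Low E M w δ := by
  refine DCat.bounded_induction (fun E => Low E M w δ) (fun N => ∃ n, Nonempty (N ≅ FlatMod.freeMod X n))
    (fun K hK => low_of_isZero hK) (fun N hN => ⟨0, ⟨hN.iso ProjPerf.isZero_freeMod_zero⟩⟩)
    (fun N N' e ⟨n, ⟨f⟩⟩ => ⟨n, ⟨e.symm ≪≫ f⟩⟩)
    (fun m N ⟨n, ⟨f⟩⟩ => low_of_iso ((single _ _ m).mapIso f.symm) ?_)
    (fun S hS h₁ h₃ => low_ext S hS h₁ h₃) a (b + 1 - a).toNat E (fun n hn => hE n (Or.inl hn))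
    (fun n hn => hE n (Or.inr (by omega))) hfree
  clear f
  induction n with
  | zero => exact low_of_isZero ((single _ _ m).map_isZero ProjPerf.isZero_freeMod_zero)
  | succ n ih =>
    let T := RHomLeft.sigmaSeq (fun _ : Fin (n + 1) => Coh.structureModule X)
    let sp : T.Splitting := RHomLeft.sigmaSplit (fun _ : Fin (n + 1) => Coh.structureModule X)
    exact low_ext (T.map (single X.Modules (ComplexShape.up ℤ) m))
      (fun q => ⟨sp.map (single X.Modules (ComplexShape.up ℤ) m ⋙ HomologicalComplex.eval _ _ q)⟩)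
      (low_structure hM m) ih

/-- A nonzero element killed away from the closed point gives a nonzero map from the residue field. -/
theorem exists_residue_hom {A : Type u} [CommRing A] [IsLocalRing A] [IsNoetherianRing A] (N : ModuleCat.{u} A)
    (hN : ¬ Subsingleton N)
    (h : ∀ Q : Ideal A, Q.IsPrime → Q ≠ IsLocalRing.maximalIdeal A → ∀ z : N, ∃ s, s ∉ Q ∧ s • z = 0) :
    ∃ f : ModuleCat.of A (A ⧸ IsLocalRing.maximalIdeal A) ⟶ N, f ≠ 0 := by
  classical
  obtain ⟨z, hz⟩ : ∃ z : N, z ≠ 0 := by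
    by_contra hc
    exact hN ⟨fun a b => (not_not.1 fun ha => hc ⟨a, ha⟩).trans (not_not.1 fun hb => hc ⟨b, hb⟩).symm⟩
  obtain ⟨n, hn⟩ := CommAlg6.DepthAcyclic.pow_mem_of_killed (⊥ : Submodule A N) z fun Q hQ hne => by
    obtain ⟨s, hs, hsz⟩ := h Q hQ hne z
    exact ⟨s, hs, (Submodule.mem_bot A).2 hsz⟩
  induction n generalizing z with
  | zero => exact absurd ((one_smul A z).symm.trans ((Submodule.mem_bot A).1 (hn 1 (by simp)))) hz
  | succ n ih =>
    by_cases hex : ∃ c ∈ IsLocalRing.maximalIdeal A ^ n, c • z ≠ 0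
    · obtain ⟨c, hc, hcz⟩ := hex
      have hle : IsLocalRing.maximalIdeal A ≤ LinearMap.ker (LinearMap.toSpanSingleton A N (c • z)) := fun a ha => by
        rw [LinearMap.mem_ker, LinearMap.toSpanSingleton_apply, smul_smul]
        exact (Submodule.mem_bot A).1 (hn _ (by rw [pow_succ']; exact Ideal.mul_mem_mul ha hc))
      refine ⟨ModuleCat.ofHom (Submodule.liftQ _ _ hle), fun h0 => hcz ?_⟩
      have := LinearMap.congr_fun (congrArg ModuleCat.Hom.hom h0) (Submodule.Quotient.mk 1)
      exact (one_smul A (c • z)).symm.trans this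
    · exact ih z hz fun a ha => (Submodule.mem_bot A).2 (not_not.1 fun h => hex ⟨a, ha, h⟩)

/-- The lowest cohomology receives maps from objects concentrated in that degree. -/
theorem exists_hom_ne_zero {A : Type (u + 1)} [Category.{u} A] [Abelian A] (L : DerivedCategory A) (j : ℤ) (N : A)
    [L.IsGE j] (f : N ⟶ (homologyFunctor A j).obj L) (hf : f ≠ 0) :
    ∃ φ : (DerivedCategory.singleFunctor A j).obj N ⟶ L, φ ≠ 0 := by
  let t := DerivedCategory.TStructure.t (C := A)
  let D := (t.triangleLTGE (j + 1)).obj L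
  have hD : D ∈ distTriang _ := t.triangleLTGE_distinguished (j + 1) L
  haveI : D.obj₃.IsGE (j + 1) := t.isGE_truncGE_obj L (j + 1) (j + 1) le_rfl
  haveI : D.obj₁.IsLE j := t.isLE_truncLT_obj L (j + 1) j (by omega)
  haveI : D.obj₁.IsGE j := inferInstanceAs (t.IsGE ((t.truncLT (j + 1)).obj L) j)
  obtain ⟨B, ⟨e⟩⟩ := DerivedCategory.exists_iso_singleFunctor_obj_of_isGE_of_isLE D.obj₁ j
  let ι : D.obj₁ ⟶ L := D.mor₁
  have hz : ∀ p, p < j + 1 → IsZero ((homologyFunctor A p).obj D.obj₃) := fun p hp =>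
    DerivedCategory.isZero_of_isGE _ (j + 1) p hp
  haveI : Epi ((homologyFunctor A j).map ι) :=
    (DerivedCategory.HomologySequence.epi_homologyMap_mor₁_iff D hD j).2 ((hz j (by omega)).eq_of_tgt _ _)
  haveI : Mono ((homologyFunctor A j).map ι) :=
    (DerivedCategory.HomologySequence.mono_homologyMap_mor₁_iff D hD (j - 1) j (by omega)).2
      ((hz (j - 1) (by omega)).eq_of_src _ _)
  haveI hι : IsIso ((homologyFunctor A j).map ι) := isIso_of_mono_of_epi _
  let c := DerivedCategory.singleFunctorCompHomologyFunctorIso A j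
  let g : N ⟶ B := f ≫ inv ((homologyFunctor A j).map ι) ≫ (homologyFunctor A j).map e.hom ≫ c.hom.app B
  refine ⟨(DerivedCategory.singleFunctor A j).map g ≫ e.inv ≫ ι, fun h0 => hf ?_⟩
  have h1 := congrArg (fun x => c.inv.app N ≫ (homologyFunctor A j).map x) h0
  simp only [Functor.map_comp, Functor.map_zero, comp_zero] at h1
  rw [← h1]
  have hn := c.inv.naturality g
  simp only [Functor.id_map, Functor.comp_map] at hn
  rw [← Category.assoc, ← hn]
  simp [g]

end Groth.Agent.FMK16
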