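import Groth.Agent.FMK16.DualLow
import Groth.Agent.Coherent.SupportPullback
import Groth.Agent.FlatBC14.Main

/-!
# `RHom(K, M)` vanishes below `-k'` for `K` of amplitude bounded by `dim + k'` and `M` of full depth
-/

set_option autoImplicit false
set_option backward.isDefEq.respectTransparency false
set_option backward.defeqAttrib.useBackward true
set_option linter.style.haveILetI false
set_option linter.unusedSectionVars false
set_option linter.unusedVariables false
set_option synthInstance.maxHeartbeats 100000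
set_option backward.isDefEq.respectTransparency.types false

universe u

open CategoryTheory CategoryTheory.Limits DerivedCategory Opposite TopologicalSpace AlgebraicGeometry
open Groth.Agent.DCat Groth.Agent.Coherent Groth.Agent.DCat.PerfLocal

attribute [local instance] HasDerivedCategory.standard
attribute [-instance] Int.instConditionallyCompleteLinearOrder

namespace Groth.Agent.FMK16

variable {X : Scheme.{u}} [IsLocallyNoetherian X]

/-- The local ring at a strict generisation has smaller dimension. -/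
theorem ringKrullDim_generization_lt (x : X) (P : PrimeSpectrum (X.presheaf.stalk x))
    (hP : P.asIdeal ≠ IsLocalRing.maximalIdeal (X.presheaf.stalk x)) (δ : ℕ)
    (hδ : ringKrullDim ↑(X.presheaf.stalk x) = (δ : WithBot ℕ∞)) :
    ∃ δ' : ℕ, δ' < δ ∧ ringKrullDim ↑(X.presheaf.stalk (X.fromSpecStalk x P)) = (δ' : WithBot ℕ∞) := by
  let h := Groth.Agent.CycLim28.fromSpecStalk_specializes x P
  letI := (X.presheaf.stalkSpecializes h).hom.toAlgebra
  haveI hloc := Misc15.isLocalization_stalkSpecializes h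
  have e : (IsUnit.submonoid (X.presheaf.stalk (X.fromSpecStalk x P))).comap (X.presheaf.stalkSpecializes h).hom =
      P.asIdeal.primeCompl := by
    ext a
    have h1 := congrArg PrimeSpectrum.asIdeal (Groth.Agent.CycLib28.eq_comap_closedPoint x P)
    rw [PrimeSpectrum.comap_asIdeal] at h1
    change IsUnit _ ↔ a ∉ P.asIdeal
    rw [h1, Ideal.mem_comap]
    exact IsLocalRing.notMem_maximalIdeal.symm
  rw [e] at hloc
  obtain ⟨δ', hδ'⟩ := Groth.Agent.LocCoh.exists_dim_eq (R := ↑(X.presheaf.stalk (X.fromSpecStalk x P)))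
  refine ⟨δ', ?_, hδ'⟩
  rw [IsLocalization.AtPrime.ringKrullDim_eq_height P.asIdeal] at hδ'
  rw [← IsLocalRing.maximalIdeal_height_eq_ringKrullDim] at hδ
  have hlt : P.asIdeal.height < (IsLocalRing.maximalIdeal (X.presheaf.stalk x)).height :=
    Ideal.height_strict_mono_of_isPrime
      (lt_of_le_of_ne (IsLocalRing.le_maximalIdeal P.2.ne_top) hP)
  have h1 : P.asIdeal.height = (δ' : ℕ∞) := WithBot.coe_eq_coe.1 hδ'
  have h2 : (IsLocalRing.maximalIdeal (X.presheaf.stalk x)).height = (δ : ℕ∞) := WithBot.coe_eq_coe.1 hδ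
  rw [h1, h2] at hlt
  exact_mod_cast hlt

/-- `RHom(K, M)` vanishes at every point in degrees `< -k'`. -/
theorem subsingleton_stalk_rhom_below [∀ x : X, DCoh.HasLpull (X.fromSpecResidueField x)]
    (K : CochainComplex X.Modules ℤ) (hK : DCoh.IsPerfect (DerivedCategory.Q.obj K))
    [DCoh.HasLTensorCx K] [DCoh.HasRSheafHom K] (M : X.Modules) (hMq : Coh.IsQCoh M)
    (hMf : ∀ y : X, Module.Finite (X.presheaf.stalk y) (M.presheaf.stalk y))
    (hdep : ∀ (y : X) (δ : ℕ), ringKrullDim ↑(X.presheaf.stalk y) = (δ : WithBot ℕ∞) →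
      (δ : ℕ∞) ≤ LocCoh.depth (X.presheaf.stalk y) (M.presheaf.stalk y)) (k' : ℕ)
    (hlow : ∀ (y : X) (q : ℤ), q < 0 → PerfD.betti (DerivedCategory.Q.obj K) y q = 0)
    (hhigh : ∀ (y : X) (δ : ℕ), ringKrullDim ↑(X.presheaf.stalk y) = (δ : WithBot ℕ∞) →
      ∀ q : ℤ, (δ : ℤ) + k' < q → PerfD.betti (DerivedCategory.Q.obj K) y q = 0) :
    ∀ (δ : ℕ) (y : X), ringKrullDim ↑(X.presheaf.stalk y) = (δ : WithBot ℕ∞) → ∀ j : ℤ, j < -(k' : ℤ) →
      Subsingleton ((DCoh.HD ((DCoh.RSheafHom K).obj (DCoh.inD X M)) j).presheaf.stalk y) := by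
  let L := (DCoh.RSheafHom K).obj (DCoh.inD X M)
  haveI := hMq
  have hLq : DCoh.IsQCohD L := DQCoh.isQCohD_RHom_perfect K hK _ (FlatBC14.isQCohD_inD M)
  intro δ
  induction δ using Nat.strong_induction_on with
  | _ δ ih =>
    intro y hy
    obtain ⟨W, k, hk, E, hyW, hE, hfree, ⟨e⟩⟩ := exists_model_between _ hK y 0 ((δ : ℤ) + k') (by omega)
      (fun q hq => hq.elim (hlow y q) (hhigh y δ hy q))
    obtain ⟨w, rfl⟩ := hyW
    haveI : IsLocallyNoetherian W := isLocallyNoetherian_of_isOpenImmersion k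
    let K' := ((Scheme.Modules.restrictFunctor k).mapHomologicalComplex (ComplexShape.up ℤ)).obj K
    haveI := LTensorSheaf.hasLTensorCx K'
    haveI := RHomExist.hasRSheafHom K'
    haveI := LTensorSheaf.hasLTensorCx E
    haveI := RHomExist.hasRSheafHom E
    obtain ⟨r⟩ := ShriekTensor.nonempty_restrict_RHom_of_eq k K K' rfl (rd k) rfl
    obtain ⟨q₀⟩ := DQCoh.nonempty_Q_map (Scheme.Modules.restrictFunctor k) K
    obtain ⟨f⟩ := TensorCongr.nonempty_congr_rhom (E := E) (E' := K') (e ≪≫ q₀.symm)
    let MW := (Scheme.Modules.restrictFunctor k).obj M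
    haveI := PullPerf.preservesFiniteLimits_restrict k
    let eM : (rd k).obj (DCoh.inD X M) ≅ DCoh.inD W MW :=
      (rd k).mapIso ((DerivedCategory.singleFunctorIsoCompQ X.Modules 0).app _) ≪≫
        (Scheme.Modules.restrictFunctor k).mapDerivedCategoryFactors.app _ ≪≫
        DerivedCategory.Q.mapIso ((HomologicalComplex.singleMapHomologicalComplex (Scheme.Modules.restrictFunctor k)
          (ComplexShape.up ℤ) 0).app _) ≪≫
        ((DerivedCategory.singleFunctorIsoCompQ W.Modules 0).app _).symm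
    let LW := (DCoh.RSheafHom E).obj (DCoh.inD W MW)
    let eL : (rd k).obj L ≅ LW := r.app _ ≪≫ (f.app _).symm ≪≫ (DCoh.RSheafHom E).mapIso eM
    -- depth and finiteness on `W`
    obtain ⟨φ, e₁, he₁, -, -⟩ := RefHullLib.exists_semilinear_restrict k M w
    letI : Algebra (X.presheaf.stalk (k w)) (W.presheaf.stalk w) := φ.toRingHom.toAlgebra
    letI : Module (X.presheaf.stalk (k w)) (MW.presheaf.stalk w) := Module.compHom _ φ.toRingHom
    haveI : IsScalarTower (X.presheaf.stalk (k w)) (W.presheaf.stalk w) (MW.presheaf.stalk w) :=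
      IsScalarTower.of_algebraMap_smul fun _ _ => rfl
    let eM' : M.presheaf.stalk (k w) ≃ₗ[X.presheaf.stalk (k w)] MW.presheaf.stalk w :=
      { e₁ with map_smul' := fun a v => he₁ a v }
    haveI := hMf (k w)
    haveI : Module.Finite (X.presheaf.stalk (k w)) (MW.presheaf.stalk w) := Module.Finite.equiv eM'
    haveI : Module.Finite (W.presheaf.stalk w) (MW.presheaf.stalk w) :=
      Module.Finite.of_restrictScalars_finite (X.presheaf.stalk (k w)) _ _
    have hdW : (δ : ℕ∞) ≤ LocCoh.depth (W.presheaf.stalk w) (MW.presheaf.stalk w) := by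
      rw [CAlgH3.depth_of_surjective (R := X.presheaf.stalk (k w)) φ.surjective, ← CAlgH3.depth_congr eM']
      exact hdep _ δ hy
    have hno : ∀ q, q < -(k' : ℤ) → NoHom w LW q := fun q hq =>
      (low_bounded hdW E hE hfree).2 ((δ : ℤ) + k') (fun n hn => hE n (Or.inr hn)) inferInstance inferInstance q
        (by omega)
    -- the stalks of cohomology
    let cH : ∀ j, (homologyFunctor (ModuleCat.{u} (W.presheaf.stalk w)) j).obj ((St w).obj LW) ≅
        (DerSch.stalkFunctor W w).obj ((Scheme.Modules.restrictFunctor k).obj (DCoh.HD L j)) := fun j =>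
      SuppOpen.hdMapIso (DerSch.stalkFunctor W w) LW j ≪≫
        (DerSch.stalkFunctor W w).mapIso ((homologyFunctor W.Modules j).mapIso eL.symm ≪≫
          SuppOpen.hdMapIso (Scheme.Modules.restrictFunctor k) L j)
    intro j hj
    by_contra hne
    -- the lowest degree
    have hfin : ∃ a : ℤ, ∀ p, p < a → IsZero ((homologyFunctor (ModuleCat.{u} (W.presheaf.stalk w)) p).obj ((St w).obj LW)) := by
      refine ⟨-((δ : ℤ) + k'), fun p hp => ?_⟩
      haveI : (DerivedCategory.Q.obj E).IsLE ((δ : ℤ) + k') := (DerivedCategory.isLE_iff _ _).2 fun n hn =>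
        (HomologicalComplex.ExactAt.isZero_homology (by
          rw [HomologicalComplex.exactAt_iff]
          exact ShortComplex.exact_of_isZero_X₂ _ (hE n (Or.inr hn)))).of_iso
          ((DerivedCategory.homologyFunctorFactors W.Modules n).app E)
      haveI := DQCoh.isGE_RHom E ((δ : ℤ) + k') (DCoh.inD W MW) 0
      exact ((DerSch.stalkFunctor W w).map_isZero
        (DerivedCategory.isZero_of_isGE LW (0 - ((δ : ℤ) + k')) p (by omega))).of_iso
        (SuppOpen.hdMapIso (DerSch.stalkFunctor W w) LW p)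
    obtain ⟨a₀, ha₀⟩ := hfin
    classical
    have hex : ∃ t : ℕ, ¬ IsZero ((homologyFunctor (ModuleCat.{u} (W.presheaf.stalk w)) (a₀ + t)).obj ((St w).obj LW)) := by
      have hz : ¬ IsZero ((homologyFunctor (ModuleCat.{u} (W.presheaf.stalk w)) j).obj ((St w).obj LW)) := fun h =>
        hne (SuppOpen.subsingleton_stalk_of_restrict k _ w
          (SuppOpen.subsingleton_of_isZero_stalkFunctor _ w (h.of_iso (cH j).symm)))
      have hja : a₀ ≤ j := le_of_not_gt fun h => hz (ha₀ j h)
      exact ⟨(j - a₀).toNat, by rwa [Int.toNat_of_nonneg (by omega), add_sub_cancel]⟩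
    let t := Nat.find hex
    let j₀ := a₀ + t
    have hj₀ : j₀ ≤ j := by
      by_contra hgt
      rcases lt_or_ge j a₀ with h | h
      · exact hne (SuppOpen.subsingleton_stalk_of_restrict k _ w
          (SuppOpen.subsingleton_of_isZero_stalkFunctor _ w ((ha₀ j h).of_iso (cH j).symm)))
      · have h1 := not_not.1 (Nat.find_min hex (show (j - a₀).toNat < t by omega))
        rw [Int.toNat_of_nonneg (by omega), add_sub_cancel] at h1
        exact hne (SuppOpen.subsingleton_stalk_of_restrict k _ w
          (SuppOpen.subsingleton_of_isZero_stalkFunctor _ w (h1.of_iso (cH j).symm)))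
    haveI : ((St w).obj LW).IsGE j₀ := (DerivedCategory.isGE_iff _ _).2 fun p hp => by
      rcases lt_or_ge p a₀ with h | h
      · exact ha₀ p h
      · have h1 := not_not.1 (Nat.find_min hex (show (p - a₀).toNat < t by omega))
        rwa [Int.toNat_of_nonneg (by omega), add_sub_cancel] at h1
    -- the stalk in degree `j₀` is killed off the closed point
    let N := DCoh.HD L j₀
    obtain ⟨ψ, e₂, he₂, -, -⟩ := RefHullLib.exists_semilinear_restrict k N w
    have hkill : ∀ Q : Ideal (W.presheaf.stalk w), Q.IsPrime → Q ≠ IsLocalRing.maximalIdeal _ →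
        ∀ z : ((Scheme.Modules.restrictFunctor k).obj N).presheaf.stalk w, ∃ s, s ∉ Q ∧ s • z = 0 := by
      intro Q hQ hne' z
      obtain ⟨z₀, rfl⟩ := e₂.surjective z
      let P : PrimeSpectrum (X.presheaf.stalk (k w)) := ⟨Q.comap ψ.toRingHom, Ideal.IsPrime.comap _⟩
      have hPne : P.asIdeal ≠ IsLocalRing.maximalIdeal _ := fun h => hne' (by
        have h' : Q = (IsLocalRing.maximalIdeal (X.presheaf.stalk (k w))).map ψ.toRingHom := by
          rw [← h]; exact (Ideal.map_comap_of_surjective _ ψ.surjective Q).symm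
        rw [h', IsLocalRing.map_maximalIdeal_of_surjective _ ψ.surjective])
      obtain ⟨δ', hlt, hδ'⟩ := ringKrullDim_generization_lt (k w) P hPne δ hy
      letI := Module.compHom (N.presheaf.stalk (X.fromSpecStalk (k w) P))
        (X.presheaf.stalkSpecializes (Groth.Agent.CycLim28.fromSpecStalk_specializes (k w) P)).hom
      obtain ⟨ρ, -, hρ⟩ := CycLib28.isLocalizedModule_stalkSpecializes (hLq j₀) (k w) P
      haveI := hρ
      haveI := ih δ' hlt (X.fromSpecStalk (k w) P) hδ' j₀ (by omega)
      obtain ⟨s, hs⟩ := (IsLocalizedModule.eq_zero_iff P.asIdeal.primeCompl ρ).1 (Subsingleton.elim (ρ z₀) 0)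
      refine ⟨ψ s, fun h => s.2 h, ?_⟩
      rw [← he₂]
      show e₂ ((s : X.presheaf.stalk (k w)) • z₀) = 0
      rw [show (s : X.presheaf.stalk (k w)) • z₀ = 0 from hs, map_zero]
    have hNne : ¬ Subsingleton (((Scheme.Modules.restrictFunctor k).obj N).presheaf.stalk w) := fun h =>
      Nat.find_spec hex ((SuppOpen.isZero_stalkFunctor _ w (h := h)).of_iso (cH j₀))
    obtain ⟨g, hg⟩ := exists_residue_hom ((DerSch.stalkFunctor W w).obj ((Scheme.Modules.restrictFunctor k).obj N))
      hNne hkill
    obtain ⟨Φ, hΦ⟩ := exists_hom_ne_zero ((St w).obj LW) j₀ (kap w) (g ≫ (cH j₀).inv)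
      (fun h => hg (by rw [← cancel_mono (cH j₀).inv, h, zero_comp]))
    exact hΦ (hno j₀ (by omega) Φ)

end Groth.Agent.FMK16
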