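import Groth.Agent.FMK16.ModelRange
import Groth.Agent.DCat.ClosedShriek
import Groth.Agent.DCat.TotSymm
import Groth.Agent.DQCoh.BettiRank
import Groth.Agent.BCFlat16.Ten

/-!
# The derived dual of a locally free sheaf is its dual sheaf
-/

set_option autoImplicit false
set_option backward.isDefEq.respectTransparency false
set_option backward.defeqAttrib.useBackward true
set_option linter.style.haveILetI false
set_option linter.unusedSectionVars false
set_option linter.unusedVariables false
set_option synthInstance.maxHeartbeats 100000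
set_option backward.isDefEq.respectTransparency.types false

universe u

open CategoryTheory CategoryTheory.Limits DerivedCategory Opposite TopologicalSpace AlgebraicGeometry
open HomologicalComplex
open Groth.Agent.DCat Groth.Agent.Coherent Groth.Agent.DCat.PerfLocal

attribute [local instance] HasDerivedCategory.standard
attribute [-instance] Int.instConditionallyCompleteLinearOrder

namespace Groth.Agent.FMK16

variable {X : Scheme.{u}}

/-- The fibre of a locally free sheaf lives in degree zero. -/
theorem betti_inD_locFree [∀ x : X, DCoh.HasLpull (X.fromSpecResidueField x)] {P : X.Modules}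
    (hP : FlatMod.IsFinLocFree P) (y : X) (q : ℤ) (hq : q ≠ 0) : PerfD.betti (DCoh.inD X P) y q = 0 := by
  obtain ⟨U, n, hyU, ⟨eU⟩⟩ := hP y
  have hperf : DCoh.IsPerfect (DCoh.inD X P) :=
    PCTriangle.perfect_iso ((DerivedCategory.singleFunctorIsoCompQ _ 0).app P).symm
      (Dual22Lib.PerfLift.isPerfect_single hP)
  let L : CommRingCat.{u} := CommRingCat.of (X.residueField y)
  let g : Spec L ⟶ X := X.fromSpecResidueField y
  let z : Spec L := (IsLocalRing.closedPoint (X.residueField y) : PrimeSpectrum (X.residueField y))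
  have hgz : g z = y := Scheme.fromSpecResidueField_apply y z
  have h := DQCoh.fdim_inD_shift hP 0 L (Field.toIsField _) g z U (by rw [hgz]; exact hyU) eU q
  rw [if_neg hq, DQCoh.fdim_iso g ((shiftFunctorZero' (DCoh.D X) (-0 : ℤ) (by omega)).app _) q,
    show (𝟭 (DCoh.D X)).obj (DCoh.inD X P) = DCoh.inD X P from rfl,
    DQCoh.fdim_eq_betti (DCoh.inD X P) hperf L (Field.toIsField _) g z q, hgz] at h
  exact h

/-- An object representing the composite of a derived left adjoint with the inclusion is the right adjoint. -/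
theorem nonempty_iso_of_adjoint {A D : Type*} [Category A] [Category D] (ι : A ⥤ D) [ι.Full] [ι.Faithful]
    {LT RT : D ⥤ D} (adjR : LT ⊣ RT) {F F' H : A ⥤ A} (e₂ : ι ⋙ LT ≅ F ⋙ ι) (sw : F' ≅ F) (adjH : F' ⊣ H)
    (O B : A) (eB : RT.obj (ι.obj O) ≅ ι.obj B) : Nonempty (B ≅ H.obj O) := by
  let ff := Functor.FullyFaithful.ofFullyFaithful ι
  let T : ∀ a : A, (a ⟶ B) → (a ⟶ H.obj O) := fun a f => adjH.homEquiv a O (sw.hom.app a ≫
    ff.preimage (e₂.inv.app a ≫ (adjR.homEquiv _ _).symm (ι.map f ≫ eB.inv)))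
  let S : ∀ a : A, (a ⟶ H.obj O) → (a ⟶ B) := fun a f => ff.preimage (adjR.homEquiv _ _
    (e₂.hom.app a ≫ ι.map (sw.inv.app a ≫ (adjH.homEquiv a O).symm f)) ≫ eB.hom)
  refine ⟨Yoneda.ext B (H.obj O) (fun {a} f => T a f) (fun {a} f => S a f) (fun {a} f => ?_) (fun {a} f => ?_)
    (fun {a a'} g f => ?_)⟩
  · refine ff.map_injective ?_
    simp [T, S]
  · simp [T, S]
  · simp only [T]
    rw [← adjH.homEquiv_naturality_left, sw.hom.naturality_assoc g]
    congr 2
    refine ff.map_injective ?_
    simp only [Functor.map_comp, Functor.FullyFaithful.map_preimage, Category.assoc]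
    rw [Adjunction.homEquiv_naturality_left_symm]
    exact (e₂.inv.naturality_assoc g _).symm

/-- `RHom(P, O) = P^∨` for locally free `P`. -/
theorem nonempty_dual_single [∀ x : X, DCoh.HasLpull (X.fromSpecResidueField x)] (P : X.Modules)
    (hP : FlatMod.IsFinLocFree P) [DCoh.HasSheafHom P]
    [DCoh.HasLTensorCx ((single X.Modules (ComplexShape.up ℤ) 0).obj P)]
    [DCoh.HasRSheafHom ((single X.Modules (ComplexShape.up ℤ) 0).obj P)] :
    Nonempty (DCoh.inD X ((DCoh.sheafHom P).obj (Coh.structureModule X)) ≅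
      (DCoh.RSheafHom ((single X.Modules (ComplexShape.up ℤ) 0).obj P)).obj
        (DCoh.inD X (Coh.structureModule X))) := by
  let SP := (single X.Modules (ComplexShape.up ℤ) 0).obj P
  let O := Coh.structureModule X
  let R := (DCoh.RSheafHom SP).obj (DCoh.inD X O)
  let eSP : DerivedCategory.Q.obj SP ≅ DCoh.inD X P := ((DerivedCategory.singleFunctorIsoCompQ _ 0).app P).symm
  have hperf : DCoh.IsPerfect (DerivedCategory.Q.obj SP) := Dual22Lib.PerfLift.isPerfect_single hP
  haveI : (DerivedCategory.Q.obj SP).IsLE 0 := DerivedCategory.TStructure.t.isLE_of_iso eSP.symm 0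
  haveI : R.IsGE 0 := by simpa using DQCoh.isGE_RHom SP 0 (DCoh.inD X O) 0
  haveI : R.IsLE 0 := (DerivedCategory.isLE_iff _ _).2 fun i hi => ModStalk.isZero_of_stalks fun y =>
    haveI : Subsingleton ((DerSch.stalkFunctor X y).obj (DCoh.HD R i)) := subsingleton_stalk_rhom_above SP hperf O y 0 (fun q hq => by
      rw [← betti_inD_locFree hP y q (by omega)]
      exact DQCoh.finrank_top_congr ((homologyFunctor _ q).mapIso
        ((DCoh.Lpull (X.fromSpecResidueField y)).mapIso eSP))) i (by omega)
    ModuleCat.isZero_of_subsingleton ((DerSch.stalkFunctor X y).obj (DCoh.HD R i))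
  obtain ⟨B, ⟨eB⟩⟩ := DerivedCategory.exists_iso_singleFunctor_obj_of_isGE_of_isLE R 0
  -- tensoring with `P[0]` on sheaves
  let F : X.Modules ⥤ X.Modules := (shT X).flip.obj P
  haveI : F.Additive := inferInstanceAs ((shT X).flip.obj P).Additive
  have hkf : IsKFlatFor (shT X) SP := PullPerf.isKFlatFor_of_strictlyPerfect (DQCoh.strictlyPerfect_single hP)
  let e₁ : DerivedCategory.Q ⋙ DCoh.LTensorCx SP ≅ F.mapHomologicalComplex (ComplexShape.up ℤ) ⋙ DerivedCategory.Q :=
    TensorCongr.fac hkf ≪≫ Functor.isoWhiskerRight (ClosedShriek.totSingle (shT X) P).symm DerivedCategory.Q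
  let e₂ : DerivedCategory.singleFunctor X.Modules 0 ⋙ DCoh.LTensorCx SP ≅ F ⋙ DerivedCategory.singleFunctor X.Modules 0 :=
    Functor.isoWhiskerRight (DerivedCategory.singleFunctorIsoCompQ X.Modules 0) _ ≪≫ Functor.associator _ _ _ ≪≫
      Functor.isoWhiskerLeft _ e₁ ≪≫ (Functor.associator _ _ _).symm ≪≫
      Functor.isoWhiskerRight (HomologicalComplex.singleMapHomologicalComplex F (ComplexShape.up ℤ) 0) _ ≪≫
      Functor.associator _ _ _ ≪≫ Functor.isoWhiskerLeft F (DerivedCategory.singleFunctorIsoCompQ X.Modules 0).symm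
  let sw : (DCoh.tensorBi (X := X)).obj P ≅ F :=
    NatIso.ofComponents (fun A => TotSymm.braid P A) (fun g => TotSymm.braid_nat₂ P g)
  obtain ⟨e⟩ := nonempty_iso_of_adjoint (DerivedCategory.singleFunctor X.Modules 0) (DCoh.RSheafHomAdj SP) e₂ sw
    (DCoh.sheafHomAdj P) O B eB
  exact ⟨(DerivedCategory.singleFunctor X.Modules 0).mapIso e.symm ≪≫ eB.symm⟩

end Groth.Agent.FMK16
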