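import Groth.Agent.FMK16.TopDegree
import Groth.Agent.FMK16.Ample
import Groth.Agent.FlatBC14.Main
import Groth.Agent.BCFlat16.TenInv
import Groth.Agent.AffSchLib.TildeIso
import Groth.Agent.Props12.TildeFin

/-!
# Hypercohomology on a fibre as fibre dimension of the direct image
-/

set_option autoImplicit false
set_option backward.isDefEq.respectTransparency false
set_option backward.defeqAttrib.useBackward true
set_option linter.style.haveILetI false
set_option backward.isDefEq.respectTransparency.types false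

universe u

open CategoryTheory CategoryTheory.Limits CategoryTheory.Pretriangulated AlgebraicGeometry HomologicalComplex Opposite
open Groth.Agent.ModStalk Groth.Agent.DCat Groth.Agent.Coherent

attribute [local instance] HasDerivedCategory.standard
attribute [-instance] Int.instConditionallyCompleteLinearOrder

namespace Groth.Agent.FMK16

set_option maxHeartbeats 1000000 in
/-- Over a field, no maps from the structure module means no cohomology. -/
theorem van_iff_finrank (κ : CommRingCat.{u}) (hκ : IsField κ) (S : DCoh.D (Spec κ)) (hS : DCoh.IsPerfect S) (i : ℤ) :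
    Van S i ↔ Module.finrank (Coh.Γtop (Spec κ)) ((DCoh.HD S i).val.obj (op ⊤)) = 0 := by
  haveI : IsNoetherianRing κ := by letI := hκ.toField; exact inferInstance
  obtain ⟨a, c, ha, hc, hq, hcoh⟩ := exists_bounded_coh hS
  haveI := ha
  haveI := hc
  haveI : Coh.IsQCoh (DCoh.HD S i) := hq i
  obtain ⟨N, ⟨e⟩⟩ := AffSchLib.exists_tilde_iso (DCoh.HD S i)
  have hft : CohB1.IsFT (tilde N) := by
    exact Coherent.isFT_of_epi e.inv (hcoh i).2
  haveI : Module.Finite κ N := (Props12.isFT_tilde_iff N).1 hft
  rw [isZero_of_van S a c i (fun q p hp => haveI : Coh.IsQCoh (DCoh.HD S q) := hq q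
      Coherent.subsingleton_HH_of_isAffine _ p hp)
    (AmpleLib.globallyGenerated_of_isQuasiAffine _)]
  rw [DQCoh.finrank_top_congr e.symm]
  rw [DQCoh.finrank_top_tilde]
  letI := hκ.toField
  rw [show Module.finrank κ N = 0 ↔ Subsingleton N from Module.finrank_zero_iff]
  rw [e.symm.isZero_iff]
  refine ⟨fun h => ?_, fun h => (tilde.functor κ).map_isZero (@ModuleCat.isZero_of_subsingleton _ _ _ h)⟩
  have hz : Subsingleton Γ(tilde N, ⊤) := AddCommGrpCat.subsingleton_of_isZero
    (((SheafOfModules.toSheaf.{u} (Spec κ).ringCatSheaf) ⋙ sheafToPresheaf _ _ ⋙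
      (evaluation _ _).obj (op ⊤)).map_isZero h)
  exact (Props12.topEquiv N).toEquiv.subsingleton_congr.2 hz

/-- Hypercohomology on the fibre against the fibre dimension of the derived direct image. -/
theorem isZero_fibre_iff_betti {Z Y : Scheme.{u}} (q : Z ⟶ Y) [Flat q] [QuasiCompact q] [QuasiSeparated q]
    [DCoh.HasRpush q] [∀ y : Y, DCoh.HasLpull (Y.fromSpecResidueField y)] (y : Y)
    [DCoh.HasLpull (pullback.fst q (Y.fromSpecResidueField y))]
    [DCoh.HasRΓ (pullback q (Y.fromSpecResidueField y))]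
    (G : DCoh.D Z) (hG : DCoh.IsQCohD G) (hE : DCoh.IsPerfect ((DCoh.Rpush q).obj G)) (i : ℤ) :
    IsZero ((DerivedCategory.homologyFunctor AddCommGrpCat.{u} i).obj
        ((DCoh.RΓ (pullback q (Y.fromSpecResidueField y))).obj
          ((DCoh.Lpull (pullback.fst q (Y.fromSpecResidueField y))).obj G))) ↔
      PerfD.betti ((DCoh.Rpush q).obj G) y i = 0 := by
  let ι := Y.fromSpecResidueField y
  let q' := pullback.snd q ι
  haveI := DCat.hasRpush q'
  haveI := DCat.hasLpull q'
  let T := (DCoh.Lpull (pullback.fst q ι)).obj G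
  let S := (DCoh.Lpull ι).obj ((DCoh.Rpush q).obj G)
  obtain ⟨bc⟩ := BCFlat16.nonempty_bc_nat (IsPullback.of_hasPullback q ι) (Or.inl inferInstance)
    (ObjectProperty.ι (DCoh.IsQCohD (X := Z))) (fun w => w.2)
  let eS : S ≅ (DCoh.Rpush q').obj T := bc.app ⟨G, hG⟩
  obtain ⟨adj⟩ := DCat.nonempty_pullPushAdj q'
  haveI : (DCoh.Lpull q').IsLeftAdjoint := adj.isLeftAdjoint
  let O := Coh.structureModule (Spec (Y.residueField y))
  obtain ⟨eQ⟩ := FlatBC14.nonempty_Lpull_Q q' ((single _ (ComplexShape.up ℤ) i).obj O)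
  let eO : (DCoh.Lpull q').obj (DerivedCategory.Q.obj ((single _ (ComplexShape.up ℤ) i).obj O)) ≅
      DerivedCategory.Q.obj ((single _ (ComplexShape.up ℤ) i).obj (Coh.structureModule (pullback q ι))) :=
    eQ ≪≫ DerivedCategory.Q.mapIso ((singleMapHomologicalComplex (Scheme.Modules.pullback q')
      (ComplexShape.up ℤ) i).app O ≪≫ (single _ (ComplexShape.up ℤ) i).mapIso (PicLoc.pullbackStructureIso q'))
  have hvan : Van T i ↔ Van ((DCoh.Rpush q').obj T) i := by
    refine ⟨fun h φ => ?_, fun h φ => ?_⟩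
    · have h1 := h (eO.inv ≫ (adj.homEquiv _ _).symm φ)
      apply (adj.homEquiv _ _).symm.injective
      rw [← cancel_epi eO.inv, h1, Adjunction.homEquiv_counit, Functor.map_zero, zero_comp, comp_zero]
    · rw [← cancel_epi eO.hom, comp_zero]
      apply (adj.homEquiv _ _).injective
      rw [h ((adj.homEquiv _ _) (eO.hom ≫ φ)), Adjunction.homEquiv_unit, Functor.map_zero, comp_zero]
  rw [isZero_homology_RΓ_iff T i, hvan, ← van_iff_of_iso eS i]
  exact van_iff_finrank (Y.residueField y) (Field.toIsField _) S (DCat.PullPerf.isPerfect_Lpull _ _ hE) i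

end Groth.Agent.FMK16
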