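import Groth.Agent.FMK16.DualSingle
import Groth.Agent.FMK16.PhiPerf
import Groth.Agent.FMK16.FibreHyper
import Groth.Agent.BoxRes17.KernelEval
import Groth.Agent.DCat.RHomEvalDual
import Groth.Agent.Dual22Lib.PullTensorNat
import Groth.Agent.Dual6Lib.FlatShriek
import Groth.Agent.Coherent.CohBC.HomSheaf
import Groth.Agent.Coherent.InternalHomAdj
import Groth.Agent.CubeLib.GlobalSec
import Groth.Agent.FlatMorAdm.LocFreeApps

/-!
# Kernels twisted from the base, and the fibre of a transform of a sheaf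
-/

set_option autoImplicit false
set_option backward.isDefEq.respectTransparency false
set_option backward.defeqAttrib.useBackward true
set_option linter.style.haveILetI false
set_option linter.unusedSectionVars false
set_option linter.unusedVariables false
set_option synthInstance.maxHeartbeats 100000
set_option maxHeartbeats 1000000
set_option backward.isDefEq.respectTransparency.types false

universe u

open CategoryTheory CategoryTheory.Limits DerivedCategory Opposite TopologicalSpace AlgebraicGeometry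
open HomologicalComplex
open Groth.Agent.DCat Groth.Agent.Coherent Groth.Agent.DCat.PerfLocal Groth.Agent.ModStalk

attribute [local instance] HasDerivedCategory.standard
attribute [-instance] Int.instConditionallyCompleteLinearOrder

namespace Groth.Agent.FMK16

variable {X : Scheme.{u}}

/-- The dual of a locally free sheaf is locally free. -/
theorem isFinLocFree_sheafHom {P : X.Modules} (hP : FlatMod.IsFinLocFree P) [DCoh.HasSheafHom P] :
    FlatMod.IsFinLocFree ((DCoh.sheafHom P).obj (Coh.structureModule X)) := by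
  let e : DCoh.sheafHom P ≅ internalHomFunctor P :=
    (DCoh.sheafHomAdj P).rightAdjointUniq (tensorHomAdj P)
  exact PerfTensor.isFinLocFree_of_iso (e.app _).symm
    (CohBC.isFinLocFree_internalHom hP (CohBC.isFinLocFree_structureModule X))

/-- Flat inverse image of a sheaf. -/
theorem nonempty_Lpull_inD_of_flat {Y : Scheme.{u}} (g : X ⟶ Y) [Flat g] [DCoh.HasLpull g] (M : Y.Modules) :
    Nonempty ((DCoh.Lpull g).obj (DCoh.inD Y M) ≅ DCoh.inD X ((Scheme.Modules.pullback g).obj M)) := by
  obtain ⟨β⟩ := Dual6Lib.BCShriekAffine.nonempty_Lpull_Gd g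
  exact ⟨β.app _ ≪≫ (Scheme.Modules.pullback g).mapDerivedCategory.mapIso
      ((DerivedCategory.singleFunctorIsoCompQ Y.Modules 0).app M) ≪≫
    (Scheme.Modules.pullback g).mapDerivedCategoryFactors.app _ ≪≫
    DerivedCategory.Q.mapIso ((singleMapHomologicalComplex (Scheme.Modules.pullback g) (ComplexShape.up ℤ) 0).app M) ≪≫
    ((DerivedCategory.singleFunctorIsoCompQ X.Modules 0).app _).symm⟩

/-- Twisting twice is twisting by the tensor product, one factor being locally free. -/
theorem nonempty_LTensor_comp_single (A : X.Modules) (hA : FlatMod.IsFinLocFree A) (B : X.Modules)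
    [DCoh.HasLTensorCx ((single X.Modules (ComplexShape.up ℤ) 0).obj A)]
    [DCoh.HasLTensorCx ((single X.Modules (ComplexShape.up ℤ) 0).obj B)]
    [DCoh.HasLTensorCx ((single X.Modules (ComplexShape.up ℤ) 0).obj (CohB1.tensorMod A B))] :
    Nonempty (DCoh.LTensorCx ((single X.Modules (ComplexShape.up ℤ) 0).obj A) ⋙
        DCoh.LTensorCx ((single X.Modules (ComplexShape.up ℤ) 0).obj B) ≅
      DCoh.LTensorCx ((single X.Modules (ComplexShape.up ℤ) 0).obj (CohB1.tensorMod A B))) := by
  let SA := (single X.Modules (ComplexShape.up ℤ) 0).obj A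
  let SB := (single X.Modules (ComplexShape.up ℤ) 0).obj B
  have hkA : IsKFlatFor (shT X) SA := PullPerf.isKFlatFor_of_strictlyPerfect (DQCoh.strictlyPerfect_single hA)
  obtain ⟨C₀, hC₀, ⟨eC⟩⟩ := PullPerf.exists_kflat_rep (DerivedCategory.Q.obj SB)
  haveI := LTensorSheaf.hasLTensorCx C₀
  haveI := LTensorSheaf.hasLTensorCx (tot (shT X) SA C₀)
  obtain ⟨c⟩ := RHomEvalDual.nonempty_LT_tot hkA hC₀
  obtain ⟨cB⟩ := TensorCongr.nonempty_congr (E := SB) (E' := C₀) eC.symm
  obtain ⟨eT⟩ := BoxRes17.nonempty_tensor_single B A hA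
  let i : DerivedCategory.Q.obj (tot (shT X) SA C₀) ≅
      DerivedCategory.Q.obj ((single X.Modules (ComplexShape.up ℤ) 0).obj (CohB1.tensorMod A B)) :=
    DerivedCategory.Q.mapIso (TotSymm.symmIso (shT X) TotSymm.braid
        (fun f b => TotSymm.braid_nat₁ f b) (fun a _ _ g => TotSymm.braid_nat₂ a g) SA C₀) ≪≫
      (LTensorSheaf.ltensorCxIso' hkA C₀).symm ≪≫
      (DCoh.LTensorCx SA).mapIso (eC ≪≫ ((DerivedCategory.singleFunctorIsoCompQ X.Modules 0).app B).symm) ≪≫ eT ≪≫
      (DerivedCategory.singleFunctor X.Modules 0).mapIso (AmpleLib.tensorComm B A) ≪≫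
      (DerivedCategory.singleFunctorIsoCompQ X.Modules 0).app _
  obtain ⟨cT⟩ := TensorCongr.nonempty_congr (E := tot (shT X) SA C₀)
    (E' := (single X.Modules (ComplexShape.up ℤ) 0).obj (CohB1.tensorMod A B)) i
  exact ⟨Functor.isoWhiskerLeft _ cB ≪≫ c ≪≫ cT⟩

section Phi

variable (k : Type u) [Field k] {X Y : Scheme.{u}} (a : X ⟶ Spec (CommRingCat.of k))
  (b : Y ⟶ Spec (CommRingCat.of k)) [IsProper a] [Flat a] [LocallyOfFiniteType b]
  [DCoh.HasLpull (pullback.fst a b)] [DCoh.HasRpush (pullback.snd a b)]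

/-- A twist of the kernel from the base comes out of the transform. -/
theorem nonempty_phi_twist (A : (pullback a b).Modules) (hA : FlatMod.IsFinLocFree A) (ω : Y.Modules)
    (hω : Coh.IsQCoh ω)
    [DCoh.HasLTensorCx ((single (pullback a b).Modules (ComplexShape.up ℤ) 0).obj A)]
    [DCoh.HasLTensorCx ((single (pullback a b).Modules (ComplexShape.up ℤ) 0).obj
      (CohB1.tensorMod A ((Scheme.Modules.pullback (pullback.snd a b)).obj ω)))]
    [DCoh.HasLTensorCx ((single Y.Modules (ComplexShape.up ℤ) 0).obj ω)]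
    (M : DCoh.D X) (hM : DCoh.IsQCohD M) :
    Nonempty ((DCoh.LTensorCx ((single Y.Modules (ComplexShape.up ℤ) 0).obj ω)).obj
        ((FMK.phi a b ((single (pullback a b).Modules (ComplexShape.up ℤ) 0).obj A)).obj M) ≅
      (FMK.phi a b ((single (pullback a b).Modules (ComplexShape.up ℤ) 0).obj
        (CohB1.tensorMod A ((Scheme.Modules.pullback (pullback.snd a b)).obj ω)))).obj M) := by
  let q := pullback.snd a b
  haveI : Flat b := CubeLib.flat_of_field b
  haveI : Flat q := inferInstance
  haveI : IsLocallyNoetherian Y := LocallyOfFiniteType.isLocallyNoetherian b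
  haveI := hasLpull q
  let B := (Scheme.Modules.pullback q).obj ω
  let SA := (single (pullback a b).Modules (ComplexShape.up ℤ) 0).obj A
  let SB := (single (pullback a b).Modules (ComplexShape.up ℤ) 0).obj B
  let Sω := (single Y.Modules (ComplexShape.up ℤ) 0).obj ω
  haveI := LTensorSheaf.hasLTensorCx SB
  have hA' : DCoh.IsQCohD (DerivedCategory.Q.obj SA) :=
    Dual22Lib.PerfLift.isQCohD_perfect (Dual22Lib.PerfLift.isPerfect_single hA)
  have hωq : DCoh.IsQCohD (DerivedCategory.Q.obj Sω) :=
    haveI := hω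
    DQCoh.isQCohD_of_iso ((DerivedCategory.singleFunctorIsoCompQ _ 0).app ω) (FlatBC14.isQCohD_inD ω)
  obtain ⟨l⟩ := nonempty_Lpull_inD_of_flat q ω
  let eM : DerivedCategory.Q.obj SB ≅ (DCoh.Lpull q).obj (DerivedCategory.Q.obj Sω) :=
    ((DerivedCategory.singleFunctorIsoCompQ _ 0).app B).symm ≪≫ l.symm ≪≫
      (DCoh.Lpull q).mapIso ((DerivedCategory.singleFunctorIsoCompQ _ 0).app ω)
  have hG : DCoh.IsQCohD ((DCoh.LTensorCx SA).obj ((DCoh.Lpull (pullback.fst a b)).obj M)) :=
    DQCoh.isQCohD_LTensorCx SA hA' _ (DQCoh.isQCohD_Lpull (pullback.fst a b) _ hM)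
  obtain ⟨π⟩ := Dual22Lib.ProjQCoh.nonempty_projection_qcoh q _ hG Sω hωq SB ⟨eM⟩
  obtain ⟨c⟩ := nonempty_LTensor_comp_single A hA B
  exact ⟨π ≪≫ (DCoh.Rpush q).mapIso (c.app _)⟩

/-- The fibre of the transform of a sheaf by a locally free kernel vanishes in negative degrees. -/
theorem betti_phi_neg [∀ y : Y, DCoh.HasLpull (Y.fromSpecResidueField y)] (P₀ : (pullback a b).Modules)
    (hP₀ : FlatMod.IsFinLocFree P₀)
    [DCoh.HasLTensorCx ((single (pullback a b).Modules (ComplexShape.up ℤ) 0).obj P₀)]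
    (F : X.Modules) (hF : DCoh.IsPerfect (DCoh.inD X F)) (y : Y) (i : ℤ) (hi : i < 0) :
    PerfD.betti ((FMK.phi a b ((single (pullback a b).Modules (ComplexShape.up ℤ) 0).obj P₀)).obj (DCoh.inD X F)) y i = 0 := by
  let Z := pullback a b
  let p := pullback.fst a b
  let q := pullback.snd a b
  let SP := (single Z.Modules (ComplexShape.up ℤ) 0).obj P₀
  haveI : IsLocallyNoetherian Y := LocallyOfFiniteType.isLocallyNoetherian b
  haveI : Flat b := CubeLib.flat_of_field b
  obtain ⟨hG, hE⟩ := isPerfect_phi k a b SP (Dual22Lib.PerfLift.isPerfect_single hP₀) _ hF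
  let j := pullback.fst q (Y.fromSpecResidueField y)
  haveI := hasLpull j
  haveI := hasLpull (j ≫ p)
  haveI : DCoh.HasRΓ (pullback q (Y.fromSpecResidueField y)) :=
    DCat.hasRightDerivedFunctor_of_enoughKInj (DCat.modules_enoughKInj _) _
  refine (isZero_fibre_iff_betti q y _ (Dual22Lib.PerfLift.isQCohD_perfect hG) hE i).1
    ((isZero_homology_RΓ_iff _ _).2 ?_)
  -- the composite to `X` is flat
  have hsq := (IsPullback.of_hasPullback q (Y.fromSpecResidueField y)).paste_horiz (IsPullback.of_hasPullback a b)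
  haveI : Flat (Y.fromSpecResidueField y ≫ b) := CubeLib.flat_of_field _
  haveI : Flat (j ≫ p) := MorphismProperty.of_isPullback hsq.flip inferInstance
  let SP' := (Dual22Lib.PullTensorNat.pullC j).obj SP
  haveI := LTensorSheaf.hasLTensorCx SP'
  let P₁ := (Scheme.Modules.pullback j).obj P₀
  haveI := LTensorSheaf.hasLTensorCx ((single (pullback q (Y.fromSpecResidueField y)).Modules (ComplexShape.up ℤ) 0).obj P₁)
  obtain ⟨cP⟩ := TensorCongr.nonempty_congr (E := SP')
    (E' := (single (pullback q (Y.fromSpecResidueField y)).Modules (ComplexShape.up ℤ) 0).obj P₁)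
    (DerivedCategory.Q.mapIso ((singleMapHomologicalComplex (Scheme.Modules.pullback j) (ComplexShape.up ℤ) 0).app P₀))
  obtain ⟨n⟩ := Dual22Lib.PullTensorNat.nonempty_natIso j
    (PullPerf.isKFlatFor_of_strictlyPerfect (DQCoh.strictlyPerfect_single hP₀) : IsKFlatFor (shT Z) SP)
  obtain ⟨c⟩ := nonempty_LpullComp j p
  let T := (DCoh.Lpull (j ≫ p)).obj (DCoh.inD X F)
  haveI : T.IsGE 0 := Dual6Lib.FlatShriek.isGE_Lpull_flat (g := j ≫ p) 0
  let T' := (DCoh.LTensorCx ((single (pullback q (Y.fromSpecResidueField y)).Modules (ComplexShape.up ℤ) 0).obj P₁)).obj T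
  haveI hGE : T'.IsGE 0 := (DerivedCategory.isGE_iff _ _).2 fun m hm => by
    obtain ⟨e⟩ := nonempty_HD_tens T (FlatMorAdm.isFinLocFree_pullback j hP₀) m
    haveI : (DCoh.tensorRightMod P₁).Additive := Functor.additive_of_iso (Coherent.CohBC.tensorRightBiIso P₁).symm
    exact ((DCoh.tensorRightMod P₁).map_isZero (DerivedCategory.isZero_of_isGE T 0 m hm)).of_iso e
  have eT : (DCoh.Lpull j).obj ((DCoh.LTensorCx SP).obj ((DCoh.Lpull p).obj (DCoh.inD X F))) ≅ T' :=
    n.app _ ≪≫ (DCoh.LTensorCx SP').mapIso (c.app _) ≪≫ cP.app _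
  refine Van.of_iso eT.symm fun φ => ?_
  haveI : (DerivedCategory.Q.obj ((single (pullback q (Y.fromSpecResidueField y)).Modules (ComplexShape.up ℤ) i).obj
      (Coh.structureModule _))).IsLE i :=
    DerivedCategory.TStructure.t.isLE_of_iso ((DerivedCategory.singleFunctorIsoCompQ _ i).app _) i
  exact DerivedCategory.TStructure.t.zero_of_isLE_of_isGE φ i 0 hi inferInstance inferInstance

end Phi

end Groth.Agent.FMK16
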