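import Groth.Agent.FMK16.TopDegree
import Groth.Agent.LocCoh.Depth
import Groth.Agent.CAlgH3.Depth
import Mathlib.RingTheory.Ideal.Height
import Mathlib.RingTheory.Regular.RegularSequence

/-!
# Propagation of exactness under a codimension bound on the cohomology of a perfect complex
-/

set_option autoImplicit false
set_option backward.isDefEq.respectTransparency false
set_option backward.defeqAttrib.useBackward true
set_option linter.style.haveILetI false
set_option synthInstance.maxHeartbeats 100000
set_option linter.unusedVariables false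

universe u

open scoped TensorProduct Pointwise
open CategoryTheory

namespace Groth.Agent.FMK16

section Core

variable {B : Type u} [CommRing B] [IsNoetherianRing B] {F : ℕ → Type u} [∀ j, AddCommGroup (F j)] [∀ j, Module B (F j)]
  (d : ∀ j, F j →ₗ[B] F (j + 1)) (I : Ideal B)

/-- Exactness at the spot `j + 1` with coefficients in `M`. -/
def ExM (M : Type u) [AddCommGroup M] [Module B M] (j : ℕ) : Prop :=
  Function.Exact ((d j).lTensor M) ((d (j + 1)).lTensor M)

/-- The homology at the spot `j + 1` is killed by a power of `I`. -/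
def KillM (M : Type u) [AddCommGroup M] [Module B M] (j : ℕ) : Prop :=
  ∀ z, (d (j + 1)).lTensor M z = 0 → ∃ N : ℕ, ∀ a ∈ I ^ N, a • z ∈ LinearMap.range ((d j).lTensor M)

theorem lTensor_dd (hdd : ∀ j, d (j + 1) ∘ₗ d j = 0) (M : Type u) [AddCommGroup M] [Module B M] (j : ℕ) (z : M ⊗[B] F j) :
    (d (j + 1)).lTensor M ((d j).lTensor M z) = 0 := by
  rw [← LinearMap.lTensor_comp_apply, hdd, LinearMap.lTensor_zero, LinearMap.zero_apply]

variable [∀ j, Module.Flat B (F j)]

/-- Reduction modulo a regular element, on a term. -/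
theorem exists_quot_seq (M : Type u) [AddCommGroup M] [Module B M] (x : B) (hx : IsSMulRegular M x) :
    ∃ π : M →ₗ[B] QuotSMulTop x M, ∀ j,
      Function.Surjective (π.rTensor (F j)) ∧ (∀ z, π.rTensor (F j) z = 0 → ∃ w, z = x • w) ∧
      (∀ w : M ⊗[B] F j, π.rTensor (F j) (x • w) = 0) ∧ (∀ w : M ⊗[B] F j, x • w = 0 → w = 0) := by
  let m : M →ₗ[B] M := LinearMap.lsmul B M x
  let π : M →ₗ[B] QuotSMulTop x M := (x • (⊤ : Submodule B M)).mkQ
  have hex : Function.Exact m π := fun z => by
    rw [show π z = 0 ↔ z ∈ x • (⊤ : Submodule B M) from Submodule.Quotient.mk_eq_zero _,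
      Submodule.mem_smul_pointwise_iff_exists]
    exact ⟨fun ⟨w, _, hw⟩ => ⟨w, hw⟩, fun ⟨w, hw⟩ => ⟨w, trivial, hw⟩⟩
  have hm : ∀ (j : ℕ) (w : M ⊗[B] F j), m.rTensor (F j) w = x • w := fun j w => by
    induction w using TensorProduct.induction_on with
    | zero => simp
    | tmul a b => simp [m, TensorProduct.smul_tmul']
    | add a b ha hb => rw [map_add, ha, hb, smul_add]
  refine ⟨π, fun j => ⟨LinearMap.rTensor_surjective _ (Submodule.mkQ_surjective _), fun z hz => ?_, fun w => ?_,
    fun w hw => ?_⟩⟩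
  · obtain ⟨w, hw⟩ := ((rTensor_exact (F j) hex (Submodule.mkQ_surjective _)) z).1 hz
    exact ⟨w, by rw [← hw, hm]⟩
  · rw [← hm]
    exact ((rTensor_exact (F j) hex (Submodule.mkQ_surjective _)) _).2 ⟨w, rfl⟩
  · refine Module.Flat.rTensor_preserves_injective_linearMap (M := F j) m hx ?_
    rw [hm, hw, map_zero]

/-- Exactness spreads along a regular sequence when the homology has small support. -/
theorem exM_of_regular (hdd : ∀ j, d (j + 1) ∘ₗ d j = 0)
    (h0 : ∀ (M : Type u) [AddCommGroup M] [Module B M], ExM d M 0) :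
    ∀ (xs : List B), (∀ x ∈ xs, x ∈ I) → ∀ (M : Type u) [AddCommGroup M] [Module B M],
      RingTheory.Sequence.IsWeaklyRegular M xs → (∀ j, 1 ≤ j → KillM d I M j) →
      ∀ j, j ≤ xs.length → ExM d M j := by
  intro xs
  induction xs with
  | nil =>
    intro _ M _ _ _ _ j hj
    obtain rfl : j = 0 := Nat.le_zero.1 hj
    exact h0 M
  | cons x xs ih =>
    intro hI M _ _ hreg hkill j hj
    obtain ⟨hx, hxs⟩ := (RingTheory.Sequence.isWeaklyRegular_cons_iff M x xs).1 hreg
    obtain ⟨π, hπ⟩ := exists_quot_seq (F := F) M x hx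
    have hnat : ∀ (l : ℕ) (w : M ⊗[B] F l),
        (d l).lTensor _ (π.rTensor (F l) w) = π.rTensor (F (l + 1)) ((d l).lTensor M w) := fun l w => by
      rw [← LinearMap.comp_apply, ← LinearMap.comp_apply, LinearMap.lTensor_comp_rTensor,
        LinearMap.rTensor_comp_lTensor]
    have hkill' : ∀ l, 1 ≤ l → KillM d I (QuotSMulTop x M) l := by
      intro l hl z hz
      obtain ⟨z, rfl⟩ := (hπ (l + 1)).1 z
      rw [hnat] at hz
      obtain ⟨w, hw⟩ := (hπ _).2.1 _ hz
      have hdw : (d (l + 1 + 1)).lTensor M w = 0 := (hπ _).2.2.2 _ (by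
        rw [← map_smul, ← hw]; exact lTensor_dd d hdd M (l + 1) z)
      obtain ⟨N₁, hN₁⟩ := hkill (l + 1) (by omega) w hdw
      let K : Ideal B := (LinearMap.range ((d l).lTensor (QuotSMulTop x M))).comap
        (LinearMap.toSpanSingleton B _ (π.rTensor (F (l + 1)) z))
      have hK : ∀ a ∈ I ^ N₁, ∃ N₂, ∀ b ∈ I ^ N₂, b * a ∈ K := by
        intro a ha
        obtain ⟨v, hv⟩ := hN₁ a ha
        obtain ⟨N₂, hN₂⟩ := hkill l hl (a • z - x • v) (by
          rw [map_sub, map_smul, map_smul, hw, hv, smul_smul, smul_smul, mul_comm, sub_self])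
        refine ⟨N₂, fun b hb => ?_⟩
        obtain ⟨u', hu⟩ := hN₂ b hb
        refine ⟨π.rTensor (F l) u', ?_⟩
        show _ = (b * a) • π.rTensor (F (l + 1)) z
        rw [hnat, hu, map_smul, map_sub, (hπ _).2.2.1, sub_zero, map_smul, smul_smul]
      obtain ⟨N, hN⟩ : ∃ N, I ^ N ≤ K := by
        by_cases hfg : (I ^ N₁).FG
        · obtain ⟨s, hs⟩ := hfg
          choose! N₂ hN₂ using hK
          refine ⟨s.sup N₂ + N₁, ?_⟩
          rw [pow_add, Ideal.mul_le]
          intro b hb a ha
          rw [← hs] at ha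
          induction ha using Submodule.span_induction with
          | mem a ha => exact hN₂ a (hs ▸ Submodule.subset_span ha) b (Ideal.pow_le_pow_right (Finset.le_sup ha) hb)
          | zero => rw [mul_zero]; exact K.zero_mem
          | add a a' _ _ h h' => rw [mul_add]; exact K.add_mem h h'
          | smul c a _ h => rw [smul_eq_mul, mul_left_comm]; exact K.mul_mem_left c h
        · exact absurd ((IsNoetherian.noetherian I).pow N₁) hfg
      exact ⟨N, fun a ha => hN ha⟩
    have hquot := ih (fun y hy => hI y (List.mem_cons_of_mem _ hy)) (QuotSMulTop x M) hxs hkill'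
    rcases Nat.eq_zero_or_pos j with rfl | hpos
    · exact h0 M
    obtain ⟨j, rfl⟩ : ∃ l, j = l + 1 := ⟨j - 1, by omega⟩
    have hdiv : ∀ z, (d (j + 1 + 1)).lTensor M z = 0 → x • z ∈ LinearMap.range ((d (j + 1)).lTensor M) →
        z ∈ LinearMap.range ((d (j + 1)).lTensor M) := by
      rintro z hz ⟨v, hv⟩
      obtain ⟨u', hu⟩ := (hquot j (by simp only [List.length_cons] at hj; omega) (π.rTensor (F (j + 1)) v)).1
        (by rw [hnat, hv, (hπ _).2.2.1])
      obtain ⟨u, rfl⟩ := (hπ j).1 u'
      rw [hnat] at hu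
      obtain ⟨w, hw⟩ := (hπ _).2.1 (v - (d j).lTensor M u) (by rw [map_sub, hu, sub_self])
      refine ⟨w, sub_eq_zero.1 ((hπ _).2.2.2 _ ?_)⟩
      rw [smul_sub, ← map_smul, ← hw, map_sub, hv, lTensor_dd d hdd M j u, sub_zero, sub_self]
    intro z
    refine ⟨fun hz => ?_, fun ⟨w, hw⟩ => hw ▸ lTensor_dd d hdd M (j + 1) w⟩
    obtain ⟨N, hN⟩ := hkill (j + 1) hpos z hz
    have hxN := hN _ (Ideal.pow_mem_pow (hI x List.mem_cons_self) N)
    clear hN
    induction N generalizing z with
    | zero => simpa using hxN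
    | succ N ihN =>
      refine hdiv z hz (ihN (x • z) (by rw [map_smul, hz, smul_zero]) ?_)
      rwa [smul_smul, ← pow_succ]

end Core

section Spread

variable {R : Type u} [CommRing R] {X Y Z : Type u} [AddCommGroup X] [Module R X] [AddCommGroup Y] [Module R Y]
  [AddCommGroup Z] [Module R Z]

theorem exact_lTensor_baseChange (B : Type u) [CommRing B] [Algebra R B] (M : Type u) [AddCommGroup M]
    [Module B M] [Module R M] [IsScalarTower R B M] (f : X →ₗ[R] Y) (g : Y →ₗ[R] Z) :
    Function.Exact ((f.baseChange B).lTensor M) ((g.baseChange B).lTensor M) ↔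
      Function.Exact (f.lTensor M) (g.lTensor M) := by
  have sq : ∀ {V W : Type u} [AddCommGroup V] [Module R V] [AddCommGroup W] [Module R W] (h : V →ₗ[R] W),
      (h.lTensor M) ∘ ((TensorProduct.AlgebraTensorModule.cancelBaseChange R B B M V).toEquiv) =
        ((TensorProduct.AlgebraTensorModule.cancelBaseChange R B B M W).toEquiv) ∘ (h.baseChange B).lTensor M := by
    intro V W _ _ _ _ h
    funext z
    induction z using TensorProduct.induction_on with
    | zero => simp
    | tmul m v =>
      induction v using TensorProduct.induction_on with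
      | zero => simp
      | tmul b v => simp
      | add a b ha hb =>
        simp only [Function.comp_apply] at ha hb ⊢
        simp only [TensorProduct.tmul_add, map_add, LinearEquiv.coe_toEquiv] at ha hb ⊢
        rw [ha, hb]
    | add a b ha hb =>
      simp only [Function.comp_apply, map_add, LinearEquiv.coe_toEquiv] at ha hb ⊢
      rw [ha, hb]
  exact (Function.Exact.iff_of_ladder_addEquiv
    (e₁ := (TensorProduct.AlgebraTensorModule.cancelBaseChange R B B M X).toAddEquiv)
    (e₂ := (TensorProduct.AlgebraTensorModule.cancelBaseChange R B B M Y).toAddEquiv)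
    (e₃ := (TensorProduct.AlgebraTensorModule.cancelBaseChange R B B M Z).toAddEquiv)
    (f₁₂ := ((f.baseChange B).lTensor M).toAddMonoidHom) (f₂₃ := ((g.baseChange B).lTensor M).toAddMonoidHom)
    (g₁₂ := (f.lTensor M).toAddMonoidHom) (g₂₃ := (g.lTensor M).toAddMonoidHom)
    (AddMonoidHom.ext fun z => congrFun (sq f) z) (AddMonoidHom.ext fun z => congrFun (sq g) z)).symm

theorem exact_lTensor_self (B : Type u) [CommRing B] {X Y Z : Type u} [AddCommGroup X] [Module B X] [AddCommGroup Y]
    [Module B Y] [AddCommGroup Z] [Module B Z] (f : X →ₗ[B] Y) (g : Y →ₗ[B] Z) :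
    Function.Exact (f.lTensor B) (g.lTensor B) ↔ Function.Exact f g :=
  (Function.Exact.iff_of_ladder_linearEquiv (e₁ := TensorProduct.lid B X) (e₂ := TensorProduct.lid B Y)
    (e₃ := TensorProduct.lid B Z) (by ext; simp) (by ext; simp)).symm

/-- Exactness above a degree from exactness on the fibre in that degree, under a codimension bound. -/
theorem exact_above_of_codim [IsNoetherianRing R] (P : DRing.Cx R) (hp : DRing.TermwiseFiniteProjective P)
    (p : Ideal R) [p.IsPrime] (i k' : ℕ) (hik : k' ≤ i)
    (hfib : Function.Exact ((P.d ((i : ℤ) - 1) i).hom.baseChange p.ResidueField)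
      ((P.d (i : ℤ) (i + 1)).hom.baseChange p.ResidueField))
    (hcm : ∀ (q : Ideal R) [q.IsPrime], q ≤ p → LocCoh.IsCohenMacaulayLocalRing (Localization.AtPrime q))
    (hgv : ∀ (q : Ideal R) [q.IsPrime], q ≤ p → ∀ j : ℕ, i < j →
      ¬ Function.Exact ((P.d ((j : ℤ) - 1) j).hom.baseChange (Localization.AtPrime q))
          ((P.d (j : ℤ) (j + 1)).hom.baseChange (Localization.AtPrime q)) →
      ((j - k' : ℕ) : ℕ∞) ≤ q.height) :
    ∀ (q : Ideal R) [q.IsPrime], q ≤ p → ∀ j : ℤ, (i : ℤ) ≤ j →
      Function.Exact ((P.d (j - 1) j).hom.baseChange (Localization.AtPrime q))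
        ((P.d j (j + 1)).hom.baseChange (Localization.AtPrime q)) := by
  let A := Localization.AtPrime p
  haveI : ∀ j, Module.Finite R (P.X j) := fun j => (hp j).1
  haveI : ∀ j, Module.Projective R (P.X j) := fun j => (hp j).2
  have hgf : ∀ (j : ℤ) (L : Type u) [CommRing L] [Algebra R L],
      (P.d j (j + 1)).hom.baseChange L ∘ₗ (P.d (j - 1) j).hom.baseChange L = 0 := fun j L _ _ =>
    d_comp_d_baseChange P L j
  have huniv : ∀ (M : Type u) [AddCommGroup M] [Module A M] [Module R M] [IsScalarTower R A M],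
      Function.Exact ((P.d ((i : ℤ) - 1) i).hom.lTensor M) ((P.d (i : ℤ) (i + 1)).hom.lTensor M) := by
    intro M _ _ _ _
    refine (exact_lTensor_baseChange A M _ _).1 ?_
    have h1 := DRingLib.exact_rTensor _ _ (hgf i A) (fun m hm => by
      obtain rfl := IsLocalRing.eq_maximalIdeal hm
      exact (exact_baseChange_trans (B := A) _ _).2 hfib) M
    exact (Function.Exact.iff_of_ladder_linearEquiv (e₁ := TensorProduct.comm A M _) (e₂ := TensorProduct.comm A M _)
      (e₃ := TensorProduct.comm A M _) (by ext; simp) (by ext; simp)).1 h1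
  intro q
  induction hn : q.height.toNat using Nat.strong_induction_on generalizing q with
  | _ n ih =>
  intro _ hqp
  subst hn
  let B := Localization.AtPrime q
  have hle : p.primeCompl ≤ q.primeCompl := fun a ha haq => ha (hqp haq)
  letI : Algebra A B := IsLocalization.localizationAlgebraOfSubmonoidLe A B p.primeCompl q.primeCompl hle
  haveI : IsScalarTower R A B := IsLocalization.localization_isScalarTower_of_submonoid_le A B _ _ hle
  haveI := hcm q hqp
  let T : ℕ → ℤ := fun l => (i : ℤ) - 1 + l
  let d : ∀ l, B ⊗[R] P.X (T l) →ₗ[B] B ⊗[R] P.X (T (l + 1)) := fun l => (P.d (T l) (T (l + 1))).hom.baseChange B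
  have hdd : ∀ l, d (l + 1) ∘ₗ d l = 0 := fun l => by
    rw [← LinearMap.baseChange_comp, ← ModuleCat.hom_comp, P.d_comp_d, ModuleCat.hom_zero, LinearMap.baseChange_zero]
  have hidx : ∀ (a b c a' b' c' : ℤ), a = a' → b = b' → c = c' →
      (Function.Exact ((P.d a b).hom.baseChange B) ((P.d b c).hom.baseChange B) ↔
        Function.Exact ((P.d a' b').hom.baseChange B) ((P.d b' c').hom.baseChange B)) := by
    rintro a b c _ _ _ rfl rfl rfl; rfl
  have hidx' : ∀ (a b c a' b' c' : ℤ), a = a' → b = b' → c = c' → ∀ (M : Type u) [AddCommGroup M] [Module R M],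
      (Function.Exact ((P.d a b).hom.lTensor M) ((P.d b c).hom.lTensor M) ↔
        Function.Exact ((P.d a' b').hom.lTensor M) ((P.d b' c').hom.lTensor M)) := by
    rintro a b c _ _ _ rfl rfl rfl M _ _; rfl
  have h0 : ∀ (M : Type u) [AddCommGroup M] [Module B M], ExM d M 0 := by
    intro M _ _
    letI := Module.compHom M (algebraMap A B)
    letI := Module.compHom M (algebraMap R B)
    haveI : IsScalarTower R B M := IsScalarTower.of_algebraMap_smul fun r m => rfl
    haveI : IsScalarTower A B M := IsScalarTower.of_algebraMap_smul fun r m => rfl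
    haveI : IsScalarTower R A M := IsScalarTower.of_algebraMap_smul fun r m => by
      show algebraMap A B (algebraMap R A r) • m = algebraMap R B r • m
      rw [← IsScalarTower.algebraMap_apply]
    refine (exact_lTensor_baseChange B M _ _).2 ((hidx' _ _ _ _ _ _ ?_ ?_ ?_ M).2 (huniv M)) <;>
      · simp only [T]; push_cast; ring
  have hkill : ∀ l, 1 ≤ l → KillM d (IsLocalRing.maximalIdeal B) B l := by
    intro l hl z₀ hz₀
    let K : Ideal B := (LinearMap.range ((d l).lTensor B)).comap (LinearMap.toSpanSingleton B _ z₀)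
    have hJ : IsLocalRing.maximalIdeal B ≤ K.radical := by
      rw [Ideal.radical_eq_sInf]
      refine le_sInf fun Q ⟨hKQ, hQ⟩ => ?_
      by_contra hle'
      haveI := hQ
      let q' := Q.comap (algebraMap R B)
      have hq'q : q' ≤ q := by
        refine (Ideal.comap_mono (IsLocalRing.le_maximalIdeal hQ.ne_top)).trans ?_
        exact (IsLocalization.AtPrime.comap_maximalIdeal B q).le
      have hne : q' < q := lt_of_le_of_ne hq'q fun he => hle' (by
        rw [← IsLocalization.map_comap q.primeCompl B Q, ← IsLocalization.AtPrime.map_eq_maximalIdeal q B]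
        exact Ideal.map_mono he.ge)
      have hlt : q'.height.toNat < q.height.toNat := by
        have h1 := Ideal.height_strict_mono_of_isPrime hne
        rw [← ENat.coe_lt_coe, ENat.coe_toNat (q'.height_ne_top_of_isPrime), ENat.coe_toNat (q.height_ne_top_of_isPrime)]
        exact h1
      have hex := ih _ hlt q' rfl (hq'q.trans hqp) (T (l + 1)) (by simp only [T]; push_cast; omega)
      rw [exact_localization_iff q'.primeCompl _ _
        (by rw [← ModuleCat.hom_comp, P.d_comp_d, ModuleCat.hom_zero])] at hex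
      obtain ⟨z, rfl⟩ := (TensorProduct.lid B _).symm.surjective z₀
      haveI : ∀ j, IsLocalizedModule q.primeCompl (TensorProduct.mk R B (P.X j) 1) := fun j =>
        (isLocalizedModule_iff_isBaseChange q.primeCompl B _).2 (TensorProduct.isBaseChange R _ B)
      obtain ⟨⟨x, σ⟩, hσ⟩ := IsLocalizedModule.surj q.primeCompl (TensorProduct.mk R B (P.X (T (l + 1))) 1) z
      have hz : d (l + 1) z = 0 := by
        have h2 := congrArg (TensorProduct.lid B _) hz₀
        rwa [LinearEquiv.map_zero, show (d (l + 1)).lTensor B ((TensorProduct.lid B _).symm z) =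
          (TensorProduct.lid B _).symm (d (l + 1) z) by simp, LinearEquiv.apply_symm_apply] at h2
      have h3 : TensorProduct.mk R B _ 1 ((P.d (T (l + 1)) (T (l + 1 + 1))).hom x) =
          TensorProduct.mk R B (P.X (T (l + 1 + 1))) 1 0 := by
        rw [map_zero]
        show (1 : B) ⊗ₜ[R] _ = 0
        rw [← LinearMap.baseChange_tmul]
        show d (l + 1) ((1 : B) ⊗ₜ[R] x) = 0
        rw [show (1 : B) ⊗ₜ[R] x = σ • z from hσ.symm, Submonoid.smul_def, LinearMap.map_smul_of_tower, hz, smul_zero]
      obtain ⟨c, hc⟩ := IsLocalizedModule.exists_of_eq (S := q.primeCompl) h3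
      rw [smul_zero, Submonoid.smul_def, ← LinearMap.map_smul_of_tower] at hc
      have hd1 : T (l + 1) - 1 = T l := by simp only [T]; push_cast; ring
      have hd2 : T (l + 1) + 1 = T (l + 1 + 1) := by simp only [T]; push_cast; ring
      rw [hd1, hd2] at hex
      obtain ⟨t, w, hw⟩ := hex ((c : R) • x) hc
      have hs : algebraMap R B ((t : R) * c * σ) ∉ Q := fun hmem => by
        rw [map_mul, map_mul] at hmem
        rcases hQ.mem_or_mem hmem with h | h
        · rcases hQ.mem_or_mem h with h' | h'
          · exact t.2 h'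
          · exact hQ.ne_top (Ideal.eq_top_of_isUnit_mem _ h' (IsLocalization.map_units B c))
        · exact hQ.ne_top (Ideal.eq_top_of_isUnit_mem _ h (IsLocalization.map_units B σ))
      refine hs (hKQ ⟨(TensorProduct.lid B _).symm ((1 : B) ⊗ₜ[R] w), ?_⟩)
      show _ = algebraMap R B ((t : R) * c * σ) • (TensorProduct.lid B _).symm z
      rw [show (d l).lTensor B ((TensorProduct.lid B _).symm ((1 : B) ⊗ₜ[R] w)) =
        (TensorProduct.lid B _).symm (d l ((1 : B) ⊗ₜ[R] w)) by simp, ← map_smul]
      refine congrArg _ ?_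
      show (1 : B) ⊗ₜ[R] (P.d (T l) (T (l + 1))).hom w = _
      rw [hw, algebraMap_smul, mul_smul, mul_smul, ← Submonoid.smul_def σ z, hσ]
      simp [TensorProduct.tmul_smul, Submonoid.smul_def]
    obtain ⟨N, hN⟩ := Ideal.exists_pow_le_of_le_radical_of_fg hJ (IsNoetherian.noetherian _)
    exact ⟨N, fun a ha => hN ha⟩
  have hdepth : LocCoh.depth B B = q.height := by
    have h1 := LocCoh.IsCohenMacaulayLocalRing.supportDim_eq_depth (R := B)
    rw [Module.supportDim_self_eq_ringKrullDim, IsLocalization.AtPrime.ringKrullDim_eq_height q B] at h1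
    exact (WithBot.coe_inj.1 h1).symm
  obtain ⟨xs, hlen, hxs, hreg⟩ := (Groth.Agent.LocCoh.natCast_le_idealDepth_iff_exists (IsLocalRing.maximalIdeal B) B
    (Groth.Agent.CAlgH3.maximal_smul_top_ne_top (R := B) (M := B)) q.height.toNat).1
    (show _ ≤ LocCoh.depth B B by rw [hdepth]; exact ENat.coe_toNat_le_self _)
  intro j hj
  obtain ⟨l, rfl⟩ : ∃ l : ℕ, j = (i : ℤ) + l := ⟨(j - i).toNat, by omega⟩
  rcases le_or_gt l q.height.toNat with hl | hl
  · have := (exact_lTensor_self B _ _).1
      (exM_of_regular d (IsLocalRing.maximalIdeal B) hdd h0 xs hxs B hreg.toIsWeaklyRegular hkill l (hl.trans hlen))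
    exact (hidx _ _ _ _ _ _ (by simp only [T]; push_cast; ring) (by simp only [T]; push_cast; ring)
      (by simp only [T]; push_cast; ring)).1 this
  · by_contra hne
    have h1 := hgv q hqp (i + l) (by omega) (by push_cast; exact hne)
    rw [← ENat.coe_toNat (q.height_ne_top_of_isPrime), ENat.coe_le_coe] at h1
    omega

end Spread

end Groth.Agent.FMK16
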