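import Groth.Agent.DQCoh.PointFibre17
import Groth.Agent.DQCoh.CompactCd
import Groth.Agent.DQCoh.Local
import Groth.Agent.Coherent.TensorFinLoc
import Groth.Agent.BCFlat16.TenInv

/-!
# Vanishing of hypercohomology from vanishing of the cohomology of the cohomology sheaves
-/

set_option autoImplicit false
set_option backward.isDefEq.respectTransparency false
set_option backward.defeqAttrib.useBackward true
set_option linter.style.haveILetI false

universe u

open CategoryTheory CategoryTheory.Limits CategoryTheory.Pretriangulated AlgebraicGeometry HomologicalComplex Opposite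
open CategoryTheory.Abelian TopologicalSpace
open Groth.Agent.ModStalk Groth.Agent.DCat Groth.Agent.Coherent

attribute [local instance] HasDerivedCategory.standard
attribute [-instance] Int.instConditionallyCompleteLinearOrder

namespace Groth.Agent.FMK16

variable {Y : Scheme.{u}}

/-- No maps from the structure module in degree `i`. -/
def Van (T : DCoh.D Y) (i : ℤ) : Prop :=
  ∀ φ : DerivedCategory.Q.obj ((single Y.Modules (ComplexShape.up ℤ) i).obj (Coh.structureModule Y)) ⟶ T, φ = 0

theorem Van.of_iso {T T' : DCoh.D Y} (e : T ≅ T') {i : ℤ} (h : Van T i) : Van T' i := fun φ => by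
  rw [← cancel_mono e.inv, zero_comp]
  exact h _

theorem van_iff_of_iso {T T' : DCoh.D Y} (e : T ≅ T') (i : ℤ) : Van T i ↔ Van T' i :=
  ⟨Van.of_iso e, Van.of_iso e.symm⟩

theorem Van.of_isZero {T : DCoh.D Y} (h : IsZero T) (i : ℤ) : Van T i := fun _ => h.eq_of_tgt _ _

theorem Van.of_triangle {T : Triangle (DCoh.D Y)} (hT : T ∈ distTriang _) {i : ℤ} (h₁ : Van T.obj₁ i)
    (h₃ : Van T.obj₃ i) : Van T.obj₂ i := fun φ => by
  obtain ⟨ψ, hψ⟩ := Triangle.coyoneda_exact₂ T hT φ (h₃ _)
  rw [hψ, h₁ ψ, zero_comp]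

/-- Vanishing of hypercohomology is vanishing of maps from the structure module. -/
theorem isZero_homology_RΓ_iff [DCoh.HasRΓ Y] (T : DCoh.D Y) (i : ℤ) :
    IsZero ((DerivedCategory.homologyFunctor AddCommGrpCat.{u} i).obj ((DCoh.RΓ Y).obj T)) ↔ Van T i := by
  refine ⟨fun h φ => DQCoh.PointFibre17.hom_zero_of_gamma T i h φ, fun h => ?_⟩
  obtain ⟨J, hJ, -, ⟨eJ⟩⟩ := DCat.MV.exists_rep T
  haveI := hJ
  let G := ((DCoh.gammaAb Y).mapHomologicalComplex (ComplexShape.up ℤ)).obj J
  let eG : (DCoh.RΓ Y).obj T ≅ DerivedCategory.Q.obj G :=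
    (DCoh.RΓ Y).mapIso eJ.symm ≪≫ OpenDerived.rfQIso (modules_enoughKInj Y) (DCoh.gammaKh Y) J ≪≫
      (DerivedCategory.quotientCompQhIso AddCommGrpCat.{u}).app G
  have hf := (DCat.Amplitude.from_single_iff J (Coh.structureModule Y) i).1 (h.of_iso eJ.symm)
  have hex : G.ExactAt i := by
    rw [HomologicalComplex.exactAt_iff' _ (i - 1) i (i + 1) (by simp) (by simp), ShortComplex.ab_exact_iff]
    intro x hx
    obtain ⟨g, hg⟩ := hf (Coherent.unitDesc _ x) (by
      rw [← AmpleLib.unitDesc_unitVal (Coherent.unitDesc _ x ≫ J.d i (i + 1)),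
        ← AmpleLib.unitDesc_unitVal (0 : Coh.structureModule Y ⟶ J.X (i + 1))]
      refine congrArg (Coherent.unitDesc _) ?_
      show (J.d i (i + 1)).app ⊤ (Coherent.unitVal (Coherent.unitDesc _ x) ⊤) = _
      rw [Coherent.unitVal_unitDesc, PicLib.resM_self]
      exact hx.trans rfl)
    refine ⟨Coherent.unitVal g ⊤, ?_⟩
    show (J.d (i - 1) i).app ⊤ (Coherent.unitVal g ⊤) = x
    have h2 := congrArg (fun z => Coherent.unitVal z ⊤) hg
    refine h2.symm.trans ?_
    rw [Coherent.unitVal_unitDesc, PicLib.resM_self]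
  rw [HomologicalComplex.exactAt_iff_isZero_homology] at hex
  exact hex.of_iso ((DerivedCategory.homologyFunctor AddCommGrpCat.{u} i).mapIso eG ≪≫
    (DerivedCategory.homologyFunctorFactors AddCommGrpCat.{u} i).app G)

/-- A module in one degree. -/
theorem van_single (M : Y.Modules) (q i : ℤ)
    (h : q ≤ i → Subsingleton (Coh.HH Y M (i - q).toNat)) :
    Van ((DerivedCategory.singleFunctor Y.Modules q).obj M) i := by
  let K := (DerivedCategory.singleFunctor Y.Modules q).obj M
  let e : K⟦i⟧ ≅ ((DerivedCategory.singleFunctor Y.Modules 0).obj M)⟦i - q⟧ :=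
    ((DerivedCategory.singleFunctors Y.Modules).shiftIso i (q - i) q (by omega)).app M ≪≫
      (((DerivedCategory.singleFunctors Y.Modules).shiftIso (i - q) (q - i) 0 (by omega)).app M).symm
  refine (DCat.Amplitude.from_shift_iff (Iso.refl K) (Coh.structureModule Y) i).1 fun φ => ?_
  rw [← cancel_mono e.hom, zero_comp]
  generalize φ ≫ e.hom = ψ
  rcases lt_or_ge i q with hiq | hiq
  · haveI : (((DerivedCategory.singleFunctor Y.Modules 0).obj M)⟦i - q⟧).IsGE (q - i) :=
      (DerivedCategory.TStructure.t).isGE_shift _ 0 (i - q) (q - i) (by omega)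
    exact (DerivedCategory.TStructure.t).zero ψ 0 (q - i) (by omega)
  · obtain ⟨n, hn⟩ := Int.eq_ofNat_of_zero_le (show 0 ≤ i - q by omega)
    haveI : Subsingleton (Coh.HH Y M n) := by simpa [hn] using h hiq
    haveI : Subsingleton (Ext (freeSh (X := Y.toTopCat) (⊤ : Y.Opens)) (Coh.toAb M) n) :=
      (HHTopAdd M n).symm.toEquiv.subsingleton
    haveI : Subsingleton (Ext ((freeModOn Y).obj ⊤) M n) := (bijective_extToH ⊤ n M).1.subsingleton
    haveI : Subsingleton (Ext (Coh.structureModule Y) M n) := subsingleton_of_forall_eq 0 fun x => by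
      have e1 : (Ext.mk₀ (DQCoh.topStructIso Y).inv).comp ((Ext.mk₀ (DQCoh.topStructIso Y).hom).comp x (zero_add n))
          (zero_add n) = x := by simp
      rw [← e1, Subsingleton.elim ((Ext.mk₀ (DQCoh.topStructIso Y).hom).comp x (zero_add n)) 0, Ext.comp_zero]
    revert ψ
    rw [hn]
    intro ψ
    obtain ⟨a, rfl⟩ := (Ext.homEquiv (X := Coh.structureModule Y) (Y := M) (n := n)).surjective ψ
    rw [Subsingleton.elim a 0]
    exact Ext.zero_hom _ _ n

/-- The cohomology sheaves below the top one are those of the truncation. -/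
theorem nonempty_HD_truncLT (T : DCoh.D Y) (b q : ℤ) (hq : q < b) :
    Nonempty (DCoh.HD ((DerivedCategory.TStructure.t.triangleLTGE b).obj T).obj₁ q ≅ DCoh.HD T q) := by
  let D := (DerivedCategory.TStructure.t.triangleLTGE b).obj T
  have hD : D ∈ distTriang _ := DerivedCategory.TStructure.t.triangleLTGE_distinguished b T
  haveI : D.obj₃.IsGE b := DerivedCategory.TStructure.t.isGE_truncGE_obj T b b le_rfl
  have hz : ∀ p, p < b → IsZero ((DerivedCategory.homologyFunctor Y.Modules p).obj D.obj₃) := fun p hp =>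
    DerivedCategory.isZero_of_isGE _ b p hp
  haveI : Epi ((DerivedCategory.homologyFunctor Y.Modules q).map D.mor₁) :=
    (DerivedCategory.HomologySequence.epi_homologyMap_mor₁_iff D hD q).2 ((hz q hq).eq_of_tgt _ _)
  haveI : Mono ((DerivedCategory.homologyFunctor Y.Modules q).map D.mor₁) :=
    (DerivedCategory.HomologySequence.mono_homologyMap_mor₁_iff D hD (q - 1) q (by omega)).2
      ((hz (q - 1) (by omega)).eq_of_src _ _)
  haveI := isIso_of_mono_of_epi ((DerivedCategory.homologyFunctor Y.Modules q).map D.mor₁)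
  exact ⟨@asIso _ _ _ _ ((DerivedCategory.homologyFunctor Y.Modules q).map D.mor₁) this⟩

/-- The top cohomology sheaf is that of the truncation. -/
theorem nonempty_HD_truncGE (T : DCoh.D Y) (b : ℤ) :
    Nonempty (DCoh.HD ((DerivedCategory.TStructure.t.triangleLTGE b).obj T).obj₃ b ≅ DCoh.HD T b) := by
  let D := (DerivedCategory.TStructure.t.triangleLTGE b).obj T
  have hD : D ∈ distTriang _ := DerivedCategory.TStructure.t.triangleLTGE_distinguished b T
  haveI : D.obj₁.IsLE (b - 1) := DerivedCategory.TStructure.t.isLE_truncLT_obj T b (b - 1) (by omega)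
  have hz : ∀ p, b ≤ p → IsZero ((DerivedCategory.homologyFunctor Y.Modules p).obj D.obj₁) := fun p hp =>
    DerivedCategory.isZero_of_isLE _ (b - 1) p (by omega)
  haveI : Mono ((DerivedCategory.homologyFunctor Y.Modules b).map D.mor₂) :=
    (DerivedCategory.HomologySequence.mono_homologyMap_mor₂_iff D hD b).2 ((hz b le_rfl).eq_of_src _ _)
  haveI : Epi ((DerivedCategory.homologyFunctor Y.Modules b).map D.mor₂) :=
    (DerivedCategory.HomologySequence.epi_homologyMap_mor₂_iff D hD b (b + 1) rfl).2
      ((hz (b + 1) (by omega)).eq_of_tgt _ _)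
  haveI := isIso_of_mono_of_epi ((DerivedCategory.homologyFunctor Y.Modules b).map D.mor₂)
  exact ⟨(@asIso _ _ _ _ ((DerivedCategory.homologyFunctor Y.Modules b).map D.mor₂) this).symm⟩

/-- An object concentrated in one degree. -/
theorem van_of_isGE_isLE (T : DCoh.D Y) (b i : ℤ) [T.IsGE b] [T.IsLE b]
    (h : b ≤ i → Subsingleton (Coh.HH Y (DCoh.HD T b) (i - b).toNat)) : Van T i := by
  obtain ⟨M, ⟨eM⟩⟩ := DerivedCategory.exists_iso_singleFunctor_obj_of_isGE_of_isLE T b
  let e : DCoh.HD T b ≅ M := (DerivedCategory.homologyFunctor Y.Modules b).mapIso eM ≪≫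
    (DerivedCategory.singleFunctorCompHomologyFunctorIso Y.Modules b).app M
  exact (van_single (DCoh.HD T b) b i h).of_iso
    ((DerivedCategory.singleFunctor Y.Modules b).mapIso e ≪≫ eM.symm)

/-- Vanishing cohomology is invariant under isomorphisms. -/
theorem subsingleton_HH_of_iso {M N : Y.Modules} (e : M ≅ N) (q : ℕ) [hN : Subsingleton (Coh.HH Y N q)] :
    Subsingleton (Coh.HH Y M q) :=
  (((Sheaf.functorH (Opens.grothendieckTopology Y) q).mapIso
    ((SheafOfModules.toSheaf.{u} Y.ringCatSheaf).mapIso e)).addCommGroupIsoToAddEquiv.toEquiv.subsingleton_congr).mpr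
      hN

theorem subsingleton_HH_of_isZero {M : Y.Modules} (h : IsZero M) (q : ℕ) : Subsingleton (Coh.HH Y M q) := by
  haveI : (SheafOfModules.toSheaf.{u} Y.ringCatSheaf).PreservesZeroMorphisms := inferInstance
  have := (Sheaf.functorH (Opens.grothendieckTopology Y) q).map_isZero ((SheafOfModules.toSheaf.{u} Y.ringCatSheaf).map_isZero h)
  exact AddCommGrpCat.subsingleton_of_isZero this

/-- Dévissage along the cohomology sheaves. -/
theorem van_of_HD : ∀ (n : ℕ) (T : DCoh.D Y) (a i : ℤ), T.IsGE a → T.IsLE (a + n - 1) →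
    (∀ q : ℤ, q ≤ i → Subsingleton (Coh.HH Y (DCoh.HD T q) (i - q).toNat)) → Van T i := by
  intro n
  induction n with
  | zero =>
    intro T a i hG hL _
    refine Van.of_isZero (DQCoh.isZero_of_isZero_hd _ fun q => ?_) i
    rcases lt_or_ge q a with hq | hq
    · exact DerivedCategory.isZero_of_isGE T a q hq
    · exact DerivedCategory.isZero_of_isLE T (a + (0 : ℕ) - 1) q (by omega)
  | succ n ih =>
    intro T a i hG hL h
    haveI := hG
    haveI := hL
    obtain ⟨b, hb⟩ : ∃ b : ℤ, b = a + n := ⟨_, rfl⟩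
    haveI : T.IsLE b := by
      have : a + ((n + 1 : ℕ) : ℤ) - 1 = b := by push_cast; omega
      rw [← this]; exact hL
    let D := (DerivedCategory.TStructure.t.triangleLTGE b).obj T
    have hD : D ∈ distTriang _ := DerivedCategory.TStructure.t.triangleLTGE_distinguished b T
    haveI : D.obj₁.IsLE (b - 1) := DerivedCategory.TStructure.t.isLE_truncLT_obj T b (b - 1) (by omega)
    haveI : D.obj₃.IsGE b := DerivedCategory.TStructure.t.isGE_truncGE_obj T b b le_rfl
    refine Van.of_triangle (T := D) hD ?_ ?_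
    · refine ih D.obj₁ a i ((DerivedCategory.isGE_iff _ a).2 fun q hq => ?_) (by rw [← hb]; infer_instance)
        fun q hq => ?_
      · obtain ⟨e⟩ := nonempty_HD_truncLT T b q (by omega)
        exact (DerivedCategory.isZero_of_isGE T a q hq).of_iso e
      · rcases lt_or_ge q b with hqb | hqb
        · obtain ⟨e⟩ := nonempty_HD_truncLT T b q hqb
          haveI := h q hq
          exact subsingleton_HH_of_iso e _
        · exact subsingleton_HH_of_isZero (DerivedCategory.isZero_of_isLE D.obj₁ (b - 1) q (by omega)) _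
    · haveI : D.obj₃.IsLE b := (DerivedCategory.isLE_iff _ b).2 fun q hq =>
        DerivedCategory.HomologySequence.exact₃ D hD q (q + 1) rfl |>.isZero_of_both_zeros
          ((DerivedCategory.isZero_of_isLE T b q hq).eq_of_src _ _)
          ((DerivedCategory.isZero_of_isLE D.obj₁ (b - 1) (q + 1) (by omega)).eq_of_tgt _ _)
      refine van_of_isGE_isLE D.obj₃ b i fun hbi => ?_
      obtain ⟨e⟩ := nonempty_HD_truncGE T b
      haveI := h b hbi
      exact subsingleton_HH_of_iso e _

/-- The cohomology sheaves of a twist. -/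
theorem nonempty_HD_tens (T : DCoh.D Y) {N : Y.Modules} (hN : FlatMod.IsFinLocFree N) (q : ℤ)
    [DCoh.HasLTensorCx ((single Y.Modules (ComplexShape.up ℤ) 0).obj N)] :
    Nonempty (DCoh.HD ((DCoh.LTensorCx ((single Y.Modules (ComplexShape.up ℤ) 0).obj N)).obj T) q ≅
      (DCoh.tensorRightMod N).obj (DCoh.HD T q)) := by
  haveI := DCat.hasLTensorMod N
  obtain ⟨n⟩ := BCFlat16.nonempty_LTensorMod_nat N
  obtain ⟨P, hP, ⟨eP⟩⟩ := PullPerf.exists_kflat_rep T
  haveI := preservesFiniteLimits_tensE hN
  haveI := preservesFiniteColimits_tensE hN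
  let α : tensE N ≅ DCoh.tensorRightMod N := (Coherent.CohBC.tensorRightBiIso N).symm
  haveI : PreservesFiniteLimits (DCoh.tensorRightMod N) := preservesFiniteLimits_of_natIso α
  haveI : PreservesFiniteColimits (DCoh.tensorRightMod N) := preservesFiniteColimits_of_natIso α
  exact ⟨(DerivedCategory.homologyFunctor Y.Modules q).mapIso
      ((n.app T).symm ≪≫ (DCoh.LTensorMod N).mapIso eP.symm ≪≫ ltensorModIso N hP) ≪≫
    (DerivedCategory.homologyFunctorFactors Y.Modules q).app _ ≪≫
    (P.sc q).mapHomologyIso (DCoh.tensorRightMod N) ≪≫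
    (DCoh.tensorRightMod N).mapIso (((DerivedCategory.homologyFunctorFactors Y.Modules q).app P).symm ≪≫
      (DerivedCategory.homologyFunctor Y.Modules q).mapIso eP)⟩

end Groth.Agent.FMK16
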