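import Groth.Agent.DQCoh.RHomQCoh
import Groth.Agent.DQCoh.BettiRank
import Groth.Agent.DQCoh.PerfectAffine
import Groth.Agent.DCat.RHomSeq
import Groth.Agent.DCat.SuppOpen
import Groth.Agent.DCat.ProjPerfFree
import Groth.Agent.FMK16.DualAmp

/-!
# Models of perfect objects in a prescribed range near a point, and vanishing of `RHom` above
-/

set_option autoImplicit false
set_option backward.isDefEq.respectTransparency false
set_option backward.defeqAttrib.useBackward true
set_option linter.style.haveILetI false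
set_option linter.unusedSectionVars false
set_option linter.unusedVariables false
set_option synthInstance.maxHeartbeats 100000
set_option backward.isDefEq.respectTransparency.types false

universe u

open CategoryTheory CategoryTheory.Limits CategoryTheory.Pretriangulated DerivedCategory Opposite TopologicalSpace AlgebraicGeometry
open HomologicalComplex
open Groth.Agent.DCat Groth.Agent.Coherent Groth.Agent.DCat.PerfLocal

attribute [local instance] HasDerivedCategory.standard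
attribute [-instance] Int.instConditionallyCompleteLinearOrder

namespace Groth.Agent.FMK16

variable {X : Scheme.{u}}

/-- A model in degrees `[m, n]` near a point whose fibre vanishes outside `[m, n]`. -/
theorem exists_model_between (D : DCoh.D X) [∀ x : X, DCoh.HasLpull (X.fromSpecResidueField x)] (hD : DCoh.IsPerfect D)
    (y : X) (m n : ℤ) (hmn : m ≤ n) (h : ∀ q, q < m ∨ n < q → PerfD.betti D y q = 0) :
    ∃ (W : Scheme.{u}) (k : W ⟶ X) (_ : IsOpenImmersion k) (E : CochainComplex W.Modules ℤ),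
      y ∈ k.opensRange ∧ DCoh.VanishesOutside E m n ∧ (∀ i, ∃ n, Nonempty (E.X i ≅ FlatMod.freeMod W n)) ∧
      Nonempty (DerivedCategory.Q.obj E ≅ (rd k).obj D) := by
  obtain ⟨R₀, _, k₀, _, P₀, a₀, b₀, hyk, hP₀, hp₀, ⟨e₀⟩⟩ := DQCoh.exists_affine_perfect hD y
  let V₀ : X.Opens := k₀.opensRange
  have hout : ∀ x' ∈ k₀.opensRange, ∀ p, p < a₀ - 1 ∨ b₀ + 1 < p → PerfD.betti D x' p = 0 := by
    rintro _ ⟨z, rfl⟩ p hp'
    have h := DQCoh.betti_formula D k₀ hP₀ hp₀ (p - 1) e₀.hom (PullPerf.apx_of_isIso _ _) p (by omega) z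
    haveI := ModuleCat.subsingleton_of_isZero (hP₀ p (by omega))
    haveI := ModuleCat.subsingleton_of_isZero (hP₀ (p + 1) (by omega))
    rw [Module.rankAtStalk_eq_zero_of_subsingleton] at h
    have z1 : ∀ (M : Type u) [AddCommGroup M] [Module R₀ M] [Subsingleton M],
        FlatCxLib.fibreRank (A := R₀) M z = 0 := fun M _ _ _ => Module.finrank_zero_of_subsingleton
    haveI : Subsingleton (P₀.X p ⧸ LinearMap.range (P₀.d (p - 1) p).hom) := (Submodule.mkQ_surjective _).subsingleton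
    haveI : Subsingleton (P₀.X (p + 1) ⧸ LinearMap.range (P₀.d p (p + 1)).hom) :=
      (Submodule.mkQ_surjective _).subsingleton
    rw [z1, z1] at h
    simpa using h
  let G : Set X := (k₀.opensRange : Set X) ∩ ⋂ q ∈ Finset.Ico (a₀ - 1) m ∪ Finset.Ioc n (b₀ + 1), {x | PerfD.betti D x q < 1}
  have hG : IsOpen G := k₀.opensRange.2.inter
    (isOpen_biInter_finset fun q _ => DQCoh.isOpen_betti_lt D (DQCoh.psc_of_perfect hD) q 1)
  let U : X.Opens := ⟨G, hG⟩
  have hyU : y ∈ U := ⟨hyk, Set.mem_iInter₂.2 fun q hq => by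
    show PerfD.betti D y q < 1
    rw [h q ((Finset.mem_union.1 hq).imp (fun h => (Finset.mem_Ico.1 h).2) fun h => (Finset.mem_Ioc.1 h).1)]
    exact one_pos⟩
  have hU : ∀ x ∈ U, ∀ q, q < m ∨ n < q → PerfD.betti D x q = 0 := fun x hx q hq => by
    by_cases hb : q < a₀ - 1 ∨ b₀ + 1 < q
    · exact hout x hx.1 q hb
    · exact Nat.lt_one_iff.1 (Set.mem_iInter₂.1 hx.2 q (Finset.mem_union.2
        (hq.imp (fun h => Finset.mem_Ico.2 ⟨by omega, h⟩) fun h => Finset.mem_Ioc.2 ⟨h, by omega⟩)))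
  haveI := hasLpull U.ι
  haveI : ∀ w : (U : Scheme.{u}), DCoh.HasLpull ((U : Scheme.{u}).fromSpecResidueField w) := fun w => hasLpull _
  obtain ⟨c₀⟩ := DQCoh.nonempty_Lpull_restrict U.ι D
  let EU := (rd U.ι).obj D
  have hEU : DCoh.IsPerfect EU := PCTriangle.perfect_iso c₀ (PullPerf.isPerfect_Lpull U.ι D hD)
  obtain ⟨R, _, k, _, P, a, b, hxk, hP, hp, ⟨e⟩⟩ := DQCoh.exists_affine_perfect hEU ⟨y, hyU⟩
  haveI : ∀ N : ModuleCat.{u} R, DRing.HasLTensor R N := fun N => DCat.hasLTensor N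
  have hamp : DRing.HasTorAmplitudeIn R m n (DRing.toD P) := DCat.flatAmp_of_vanish fun N p hpi => by
    rw [DCat.isZero_ltensor_iff N (DQCoh.isKFlatFor_finiteProjective hP hp) (Iso.refl _) p]
    haveI := (hp p).1
    haveI := (hp p).2
    haveI := (hp (p + 1)).2
    refine DRingLib.exactAt_tensor_of_fibres P p (fun I hI => ?_) N
    haveI := hI
    letI : Field (R ⧸ I) := Ideal.Quotient.field I
    let ψ : R ⟶ CommRingCat.of (R ⧸ I) := CommRingCat.ofHom (Ideal.Quotient.mk I)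
    let g : Spec (CommRingCat.of (R ⧸ I)) ⟶ (U : Scheme.{u}) := Spec.map ψ ≫ k
    haveI := hasLpull g
    haveI := hasLpull (g ≫ U.ι)
    have h0 := DQCoh.fdim_chart EU k P (DQCoh.isKFlatFor_finiteProjective hP hp) (p - 1) e.hom (PullPerf.apx_of_isIso _ _)
      (CommRingCat.of (R ⧸ I)) g ψ rfl p (by omega)
    have h1 : DQCoh.fdim EU (CommRingCat.of (R ⧸ I)) g p = 0 := by
      rw [← DQCoh.fdim_iso g c₀ p, DQCoh.fdim_comp U.ι g D p,
        DQCoh.fdim_eq_betti D hD _ (Field.toIsField (R ⧸ I)) (g ≫ U.ι) (⊥ : PrimeSpectrum (R ⧸ I)) p]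
      exact hU _ (g (⊥ : PrimeSpectrum (R ⧸ I))).2 p hpi
    rw [h1] at h0
    rw [HomologicalComplex.exactAt_iff_isZero_homology]
    let C := ((ModuleCat.extendScalars.{u, u, u} (Ideal.Quotient.mk I)).mapHomologicalComplex (ComplexShape.up ℤ)).obj P
    haveI : Module.Finite (R ⧸ I) (C.X p) := by
      haveI := (hp p).1
      letI := (Ideal.Quotient.mk I).toAlgebra
      exact Module.Finite.base_change R (R ⧸ I) (P.X p)
    haveI : Module.Finite (R ⧸ I) (C.homology p) :=
      DRingLib.finite_homology_of_finite_cycles p inferInstance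
    exact @ModuleCat.isZero_of_subsingleton _ _ _ (Module.finrank_zero_iff.1 h0.symm)
  obtain ⟨Q, hQ, hQp, ⟨eQ⟩⟩ := DRingLib.exists_finiteProjective hmn
    (DRingLib.pc_of_pc' ((DRingLib.perfect_iff _).1 ⟨P, a, b, hP, hp, ⟨Iso.refl _⟩⟩).1 _) hamp
  let C := ((tilde.functor R).mapHomologicalComplex (ComplexShape.up ℤ)).obj Q
  obtain ⟨z, hz⟩ := hxk
  obtain ⟨O, hzO, hO⟩ := DQCoh.exists_free_nhd C (fun i => (Props12.isFinLocFree_tilde_iff (R := CommRingCat.of R) (Q.X i)).2 (hQp i)) z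
    (Finset.Icc m n)
  obtain ⟨c₁⟩ := rd_comp O.ι k EU
  obtain ⟨c₂⟩ := rd_comp (O.ι ≫ k) U.ι D
  refine ⟨O, (O.ι ≫ k) ≫ U.ι, inferInstance,
    ((Scheme.Modules.restrictFunctor O.ι).mapHomologicalComplex (ComplexShape.up ℤ)).obj C, ?_,
    fun i hi => (Scheme.Modules.restrictFunctor O.ι).map_isZero ((tilde.functor R).map_isZero (hQ i hi)),
    fun i => ?_, ⟨?_⟩⟩
  · refine ⟨⟨z, hzO⟩, ?_⟩
    show U.ι (k z) = y
    rw [hz]; rfl
  · by_cases hi : i ∈ Finset.Icc m n
    · exact hO i hi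
    · refine ⟨0, ⟨IsZero.iso ((Scheme.Modules.restrictFunctor O.ι).map_isZero ((tilde.functor R).map_isZero (hQ i ?_)))
        ProjPerf.isZero_freeMod_zero⟩⟩
      simp only [Finset.mem_Icc] at hi
      omega
  · exact ((Scheme.Modules.restrictFunctor O.ι).mapDerivedCategoryFactors.app C).symm ≪≫
      (rd O.ι).mapIso ((((tilde.functor R).mapDerivedCategoryFactors.app Q).symm ≪≫ (DCoh.tildeD R).mapIso eQ ≪≫ e)) ≪≫
      c₁.symm ≪≫ c₂.symm

/-- `RHom(K, M)` vanishes at `y` above minus the lowest degree of the fibre of `K`. -/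
theorem subsingleton_stalk_rhom_above [∀ x : X, DCoh.HasLpull (X.fromSpecResidueField x)]
    (K : CochainComplex X.Modules ℤ) (hK : DCoh.IsPerfect (DerivedCategory.Q.obj K))
    [DCoh.HasLTensorCx K] [DCoh.HasRSheafHom K] (M : X.Modules) (y : X) (m : ℤ)
    (h : ∀ q, q < m → PerfD.betti (DerivedCategory.Q.obj K) y q = 0) (i : ℤ) (hi : -m < i) :
    Subsingleton ((DCoh.HD ((DCoh.RSheafHom K).obj (DCoh.inD X M)) i).presheaf.stalk y) := by
  obtain ⟨W, k, hk, E, b, hy, hE, hfree, ⟨e⟩⟩ := exists_model_ge _ hK y m h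
  obtain ⟨w, rfl⟩ := hy
  let K' := ((Scheme.Modules.restrictFunctor k).mapHomologicalComplex (ComplexShape.up ℤ)).obj K
  haveI := LTensorSheaf.hasLTensorCx K'
  haveI := RHomExist.hasRSheafHom K'
  haveI := LTensorSheaf.hasLTensorCx E
  haveI := RHomExist.hasRSheafHom E
  obtain ⟨r⟩ := ShriekTensor.nonempty_restrict_RHom_of_eq k K K' rfl (rd k) rfl
  obtain ⟨q⟩ := DQCoh.nonempty_Q_map (Scheme.Modules.restrictFunctor k) K
  obtain ⟨f⟩ := TensorCongr.nonempty_congr_rhom (E := E) (E' := K') (e ≪≫ q.symm)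
  let L := (rd k).obj (DCoh.inD X M)
  have hL : ∀ j, i + m ≤ j → IsZero (DCoh.HD L j) := fun j hj => by
    refine IsZero.of_iso ?_ (SuppOpen.hdMapIso (Scheme.Modules.restrictFunctor k) (DCoh.inD X M) j)
    exact (Scheme.Modules.restrictFunctor k).map_isZero
      (DerivedCategory.isZero_of_isLE _ 0 j (by omega))
  have hz := (cuts_bounded E hE hfree).2 m (fun n hn => hE n (Or.inl hn)) inferInstance inferInstance L i hL
  refine SuppOpen.subsingleton_stalk_of_restrict k _ w (SuppOpen.subsingleton_of_isZero_stalkFunctor _ w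
    ((DerSch.stalkFunctor W w).map_isZero (hz.of_iso ?_)))
  exact (SuppOpen.hdMapIso (Scheme.Modules.restrictFunctor k) _ i).symm ≪≫
    (homologyFunctor _ i).mapIso (r.app _ ≪≫ (f.app L).symm)

end Groth.Agent.FMK16
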