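import Groth.Agent.FMK16.Ample
import Groth.Agent.DCat.TensorCongr
import Groth.Agent.DQCoh.Push
import Groth.Agent.Dual22Lib.RepLib
import Groth.Prelude.Def_DualFM

/-!
# Boundedness and coherence of Fourier–Mukai transforms of perfect complexes
-/

set_option autoImplicit false
set_option backward.isDefEq.respectTransparency false
set_option linter.style.haveILetI false

universe u

open CategoryTheory CategoryTheory.Limits AlgebraicGeometry HomologicalComplex
open Groth.Agent.ModStalk Groth.Agent.DCat

attribute [local instance] HasDerivedCategory.standard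
attribute [-instance] Int.instConditionallyCompleteLinearOrder

namespace Groth.Agent.FMK16

/-- The transform of a perfect complex by a perfect kernel is bounded with coherent cohomology. -/
theorem exists_bounded_phi (k : Type u) [Field k] {X Y : Scheme.{u}} (a : X ⟶ Spec (CommRingCat.of k))
    (b : Y ⟶ Spec (CommRingCat.of k)) [IsProper a] [IsProper b]
    (P : CochainComplex (pullback a b).Modules ℤ) (hP : DCoh.IsPerfect (DCoh.toD (pullback a b) P))
    [DCoh.HasLpull (pullback.fst a b)] [DCoh.HasLTensorCx P] [DCoh.HasRpush (pullback.snd a b)]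
    (M : DCoh.D X) (hM : DCoh.IsPerfect M) :
    ∃ lo hi : ℤ, ((FMK.phi a b P).obj M).IsGE lo ∧ ((FMK.phi a b P).obj M).IsLE hi ∧
      ∀ q, Coh.IsCoh (DCoh.HD ((FMK.phi a b P).obj M) q) := by
  let Z := pullback a b
  haveI : IsLocallyNoetherian Y := LocallyOfFiniteType.isLocallyNoetherian b
  haveI : CompactSpace Y := QuasiCompact.compactSpace_of_compactSpace b
  haveI : IsProper (pullback.snd a b) := inferInstance
  haveI : IsLocallyNoetherian Z := LocallyOfFiniteType.isLocallyNoetherian (pullback.snd a b)
  haveI : CompactSpace Z := QuasiCompact.compactSpace_of_compactSpace (pullback.snd a b)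
  haveI : QuasiSeparatedSpace Y := quasiSeparatedSpace_of_quasiSeparated b
  haveI : QuasiSeparatedSpace Z := quasiSeparatedSpace_of_quasiSeparated (pullback.snd a b)
  obtain ⟨P', hP', ⟨eP⟩⟩ := PullPerf.exists_kflat_rep (DCoh.toD Z P)
  haveI := LTensorSheaf.hasLTensorCx P'
  obtain ⟨cP⟩ := TensorCongr.nonempty_congr (E := P') (E' := P) eP
  let G := (DCoh.LTensorCx P).obj ((DCoh.Lpull (pullback.fst a b)).obj M)
  have hG : DCoh.IsPerfect G := PCTriangle.perfect_iso (cP.app _)
    (PerfTensor.isPerfect_LTensor hP' (PCTriangle.perfect_iso eP.symm hP) _ (PullPerf.isPerfect_Lpull _ _ hM))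
  obtain ⟨lo, hi, hlo, hhi, hq, hc⟩ := exists_bounded_coh hG
  obtain ⟨N, hN⟩ := Dual22Lib.SupportAdj.exists_isLE_Rpush (pullback.snd a b)
  exact ⟨lo, hi + N, Dual22Lib.RepLib.isGE_Rpush _ G lo, hN G hi hq hhi,
    fun q => Dual22Lib.SupportAdj.isCohD_Rpush _ G lo hc q⟩

end Groth.Agent.FMK16
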