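import Groth.Agent.FMK16.Swap
import Groth.Agent.DCat.SerrePairing17
import Groth.Agent.Dual22Lib.ProjQCoh
import Groth.Agent.Dual22Lib.PerfLift
import Groth.Agent.DQCoh.Local
import Groth.Agent.AffSchLib.TildeExact

/-!
# Duality as a vanishing statement, and the swap for quasi-coherent coefficients
-/

set_option autoImplicit false
set_option backward.isDefEq.respectTransparency false
set_option backward.defeqAttrib.useBackward true
set_option linter.style.haveILetI false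
set_option linter.unusedVariables false
set_option synthInstance.maxHeartbeats 100000
set_option backward.isDefEq.respectTransparency.types false

universe u

open CategoryTheory CategoryTheory.Limits CategoryTheory.Pretriangulated AlgebraicGeometry HomologicalComplex
open Groth.Agent.ModStalk Groth.Agent.DCat Groth.Agent.DCat.ProjPerf

attribute [local instance] HasDerivedCategory.standard

namespace Groth.Agent.FMK16

/-- An object with no maps to `b^× k` has no sections. -/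
theorem subsingleton_hom_of_shriek (k : Type u) [Field k] {Y : Scheme.{u}} (b : Y ⟶ Spec (CommRingCat.of k))
    [IsProper b] [DCoh.HasRpush b] (hb : DCoh.RpushPreservesQCoh b)
    (bdx : DCoh.DQCoh (Spec (CommRingCat.of k)) ⥤ DCoh.DQCoh Y) (adjb : DCoh.RpushQ b hb ⊣ bdx)
    (O : DCoh.DQCoh (Spec (CommRingCat.of k)))
    (hO : Nonempty (O.obj ≅ DCoh.inD (Spec (CommRingCat.of k)) (Coh.structureModule (Spec (CommRingCat.of k)))))
    (Z : DCoh.D Y) (hZ : DCoh.IsQCohD Z) (h : Subsingleton (Z ⟶ (bdx.obj O).obj)) :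
    Subsingleton (DCoh.inD Y (Coh.structureModule Y) ⟶ Z) := by
  haveI : PreservesFiniteLimits (tilde.functor (CommRingCat.of k)) := AffSchLib.preservesFiniteLimits_tilde _
  obtain ⟨eO⟩ := hO
  let G := (DCoh.Rpush b).obj Z
  let Zq : DCoh.DQCoh Y := ⟨Z, hZ⟩
  haveI : Subsingleton (Zq ⟶ bdx.obj O) := ⟨fun f f' => ObjectProperty.hom_ext _ (Subsingleton.elim _ _)⟩
  haveI : Subsingleton ((DCoh.RpushQ b hb).obj Zq ⟶ O) := (adjb.homEquiv Zq O).subsingleton
  have hψ : ∀ ψ : G ⟶ SerrePairing17.P₀ k, ψ = 0 := fun ψ => by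
    have h1 := congrArg (fun m => m.hom)
      (Subsingleton.elim (ObjectProperty.homMk (ψ ≫ eO.inv) : (DCoh.RpushQ b hb).obj Zq ⟶ O)
        (ObjectProperty.homMk ((0 : G ⟶ SerrePairing17.P₀ k) ≫ eO.inv)))
    exact (cancel_mono eO.inv).1 h1
  have hne : (𝟙 (SerrePairing17.P₀ k)) ≠ 0 := fun h0 =>
    one_ne_zero ((SerrePairing17.bijective_smul_P₀ k).1
      (show (1 : k) • 𝟙 (SerrePairing17.P₀ k) = (0 : k) • 𝟙 (SerrePairing17.P₀ k) by rw [h0, smul_zero, smul_zero]))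
  have hx : ∀ x : SerrePairing17.P₀ k ⟶ G, x = 0 := fun x =>
    (Module.forall_dual_apply_eq_zero_iff k x).1 fun L => by
      obtain ⟨φ, hφ⟩ := SerrePairing17.exists_functional k G (hb Z hZ) L
      have h2 := hφ x
      rw [hψ φ, comp_zero] at h2
      exact (smul_eq_zero.1 h2.symm).resolve_right hne
  haveI : Subsingleton (SerrePairing17.P₀ k ⟶ G) := ⟨fun x x' => (hx x).trans (hx x').symm⟩
  haveI := hasLpull b
  obtain ⟨ap⟩ := nonempty_pullPushAdj b
  obtain ⟨c⟩ := RelEquivBC.nonempty_Lpull_inD_structure b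
  haveI : Subsingleton ((DCoh.Lpull b).obj (SerrePairing17.P₀ k) ⟶ Z) := (ap.homEquiv _ Z).subsingleton
  exact (c.symm.homCongr (Iso.refl Z)).subsingleton

variable {X Z : Scheme.{u}}

/-- `RΓ(X, Rp_*(Q B ⊗^L P) ⊗^L E)` on the total space, everything quasi-coherent. -/
theorem nonempty_RGamma_proj_qcoh (p : Z ⟶ X) [Flat p] [QuasiCompact p] [QuasiSeparated p] [DCoh.HasRpush p]
    [DCoh.HasRΓ X] [DCoh.HasRΓ Z]
    (B P P' : CochainComplex Z.Modules ℤ) (hB : IsKFlatFor (shT Z) B) (hP' : IsKFlatFor (shT Z) P')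
    (eP : DerivedCategory.Q.obj P' ≅ DerivedCategory.Q.obj P) [DCoh.HasLTensorCx P]
    (hA : DCoh.IsQCohD ((DCoh.LTensorCx P).obj (DerivedCategory.Q.obj B)))
    (E E' : CochainComplex X.Modules ℤ) (hE' : IsKFlatFor (shT X) E') (eE : DerivedCategory.Q.obj E' ≅ DerivedCategory.Q.obj E)
    [DCoh.HasLTensorCx E] (hE : DCoh.IsQCohD (DerivedCategory.Q.obj E)) :
    Nonempty ((DCoh.RΓ X).obj ((DCoh.LTensorCx E).obj ((DCoh.Rpush p).obj
        ((DCoh.LTensorCx P).obj (DerivedCategory.Q.obj B)))) ≅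
      (DCoh.RΓ Z).obj (DerivedCategory.Q.obj (tot (shT Z) (tot (shT Z) B P') ((pullC p).obj E')))) := by
  haveI := hasLpull p
  haveI := LTensorSheaf.hasLTensorCx P'
  haveI := LTensorSheaf.hasLTensorCx E'
  haveI := LTensorSheaf.hasLTensorCx ((pullC p).obj E')
  obtain ⟨cE⟩ := TensorCongr.nonempty_congr (E := E') (E' := E) eE
  obtain ⟨cP⟩ := TensorCongr.nonempty_congr (E := P') (E' := P) eP
  obtain ⟨π⟩ := Dual22Lib.ProjQCoh.nonempty_projection_qcoh p _ hA E' (DQCoh.isQCohD_of_iso eE.symm hE)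
    ((pullC p).obj E') ⟨(PullPerf.lpullIso p hE').symm⟩
  obtain ⟨g⟩ := nonempty_RGamma_Rpush p
    ((DCoh.LTensorCx ((pullC p).obj E')).obj ((DCoh.LTensorCx P).obj (DerivedCategory.Q.obj B)))
  exact ⟨(DCoh.RΓ X).mapIso ((cE.app _).symm ≪≫ π) ≪≫ g ≪≫
    (DCoh.RΓ Z).mapIso ((DCoh.LTensorCx ((pullC p).obj E')).mapIso ((cP.app _).symm ≪≫
      LTensorSheaf.ltensorCxIso' hP' B) ≪≫
      LTensorSheaf.ltensorCxIso' (PullTot.isKFlatFor_pullback p hE') _)⟩

/-- The swap `RΓ(X, Ψ_P F ⊗ E) = RΓ(Y, Φ_P E ⊗ F)` for perfect `E`, `P` and quasi-coherent `F`. -/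
theorem nonempty_swap_qcoh (k : Type u) [Field k] {X Y : Scheme.{u}} (a : X ⟶ Spec (CommRingCat.of k))
    (b : Y ⟶ Spec (CommRingCat.of k)) [IsProper a]
    (P : CochainComplex (pullback a b).Modules ℤ) (hP : DCoh.IsPerfect (DCoh.toD (pullback a b) P))
    [DCoh.HasLpull (pullback.fst a b)] [DCoh.HasLpull (pullback.snd a b)] [DCoh.HasLTensorCx P]
    [DCoh.HasRpush (pullback.fst a b)] [DCoh.HasRpush (pullback.snd a b)]
    [DCoh.HasRΓ X] [DCoh.HasRΓ Y]
    (E : CochainComplex X.Modules ℤ) (hE : DCoh.IsPerfect (DCoh.toD X E)) [DCoh.HasLTensorCx E]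
    (F : CochainComplex Y.Modules ℤ) (hF : DCoh.IsQCohD (DCoh.toD Y F)) [DCoh.HasLTensorCx F] :
    Nonempty ((DCoh.RΓ X).obj ((DCoh.LTensorCx E).obj
        ((DCoh.Lpull (pullback.snd a b) ⋙ DCoh.LTensorCx P ⋙ DCoh.Rpush (pullback.fst a b)).obj (DCoh.toD Y F))) ≅
      (DCoh.RΓ Y).obj ((DCoh.LTensorCx F).obj ((FMK.phi a b P).obj (DCoh.toD X E)))) := by
  have hp : Flat (pullback.fst a b) := inferInstance
  have hq : Flat (pullback.snd a b) := inferInstance
  haveI : DCoh.HasRΓ (pullback a b) :=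
    DCat.hasRightDerivedFunctor_of_enoughKInj (DCat.modules_enoughKInj _) _
  obtain ⟨Ek, hEk, ⟨eE⟩⟩ := PullPerf.exists_kflat_rep (DCoh.toD X E)
  obtain ⟨Fk, hFk, ⟨eF⟩⟩ := PullPerf.exists_kflat_rep (DCoh.toD Y F)
  obtain ⟨Pk, hPk, ⟨eP⟩⟩ := PullPerf.exists_kflat_rep (DCoh.toD _ P)
  let jF := (DCoh.LTensorCx P).mapIso ((DCoh.Lpull (pullback.snd a b)).mapIso eF.symm ≪≫
    PullPerf.lpullIso (pullback.snd a b) hFk)
  let jE := (DCoh.LTensorCx P).mapIso ((DCoh.Lpull (pullback.fst a b)).mapIso eE.symm ≪≫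
    PullPerf.lpullIso (pullback.fst a b) hEk)
  have hA : DCoh.IsQCohD ((DCoh.LTensorCx P).obj (DerivedCategory.Q.obj
      (((Scheme.Modules.pullback (pullback.fst a b)).mapHomologicalComplex (ComplexShape.up ℤ)).obj Ek))) :=
    DQCoh.isQCohD_of_iso jE (DQCoh.isQCohD_LTensorCx P (Dual22Lib.PerfLift.isQCohD_perfect hP) _
      (DQCoh.isQCohD_Lpull (pullback.fst a b) _ (Dual22Lib.PerfLift.isQCohD_perfect hE)))
  obtain ⟨l⟩ := nonempty_RGamma_proj (pullback.fst a b) _ P Pk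
    (PullTot.isKFlatFor_pullback (pullback.snd a b) hFk) hPk eP E Ek hEk eE hE
  obtain ⟨r⟩ := nonempty_RGamma_proj_qcoh (pullback.snd a b) _ P Pk
    (PullTot.isKFlatFor_pullback (pullback.fst a b) hEk) hPk eP hA F Fk hFk eF hF
  obtain ⟨w⟩ := nonempty_swap
    (((Scheme.Modules.pullback (pullback.snd a b)).mapHomologicalComplex (ComplexShape.up ℤ)).obj Fk) Pk
    (((Scheme.Modules.pullback (pullback.fst a b)).mapHomologicalComplex (ComplexShape.up ℤ)).obj Ek)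
  exact ⟨(DCoh.RΓ X).mapIso ((DCoh.LTensorCx E).mapIso ((DCoh.Rpush (pullback.fst a b)).mapIso jF)) ≪≫ l ≪≫
    (DCoh.RΓ (pullback a b)).mapIso (DerivedCategory.Q.mapIso w) ≪≫ r.symm ≪≫
    ((DCoh.RΓ Y).mapIso ((DCoh.LTensorCx F).mapIso ((DCoh.Rpush (pullback.snd a b)).mapIso jE))).symm⟩

end Groth.Agent.FMK16
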