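import Groth.Agent.DCat.ProjPerfMain
import Groth.Agent.DCat.FlatPull
import Groth.Agent.Dual22Lib.ShSymm
import Groth.Agent.DCat.TensorCongr
import Groth.Agent.DCat.TensorAssoc
import Groth.Prelude.Def_DCoh2

/-!
# `RΓ(X, Rp_*(B ⊗ P) ⊗ E)` for flat `p`
-/

set_option autoImplicit false
set_option backward.isDefEq.respectTransparency false
set_option backward.defeqAttrib.useBackward true
set_option linter.style.haveILetI false
set_option synthInstance.maxHeartbeats 100000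

universe u

open CategoryTheory CategoryTheory.Limits AlgebraicGeometry HomologicalComplex
open Groth.Agent.ModStalk Groth.Agent.DCat Groth.Agent.DCat.ProjPerf

attribute [local instance] HasDerivedCategory.standard

namespace Groth.Agent.FMK16

variable {X Z : Scheme.{u}}

/-- Global sections of complexes. -/
noncomputable abbrev gammaC (X : Scheme.{u}) : CochainComplex X.Modules ℤ ⥤ CochainComplex AddCommGrpCat.{u} ℤ :=
  (DCoh.gammaAb X).mapHomologicalComplex (ComplexShape.up ℤ)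

/-- `RΓ` on K-injective complexes. -/
theorem nonempty_RGamma_kInj [DCoh.HasRΓ X] (J : CochainComplex X.Modules ℤ) [J.IsKInjective] :
    Nonempty ((DCoh.RΓ X).obj (DerivedCategory.Q.obj J) ≅ DerivedCategory.Q.obj ((gammaC X).obj J)) := by
  haveI := isIso_unit_of_kInj (modules_enoughKInj X) (DCoh.gammaKh X) J ‹_›
  exact ⟨(DCoh.RΓ X).mapIso ((DerivedCategory.quotientCompQhIso X.Modules).app J).symm ≪≫
    (asIso (((DCoh.gammaKh X).totalRightDerivedUnit DerivedCategory.Qh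
      (HomotopyCategory.quasiIso X.Modules (ComplexShape.up ℤ))).app
        ((HomotopyCategory.quotient X.Modules (ComplexShape.up ℤ)).obj J))).symm ≪≫
    (DerivedCategory.quotientCompQhIso AddCommGrpCat.{u}).app ((gammaC X).obj J)⟩

/-- Global sections of a flat direct image. -/
theorem nonempty_RGamma_Rpush (p : Z ⟶ X) [Flat p] [DCoh.HasRpush p] [DCoh.HasRΓ X] [DCoh.HasRΓ Z] (A : DCoh.D Z) :
    Nonempty ((DCoh.RΓ X).obj ((DCoh.Rpush p).obj A) ≅ (DCoh.RΓ Z).obj A) := by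
  obtain ⟨I, s, hI, hs⟩ := modules_enoughKInj Z (DerivedCategory.Q.objPreimage A)
  haveI := hI
  haveI : IsIso (DerivedCategory.Q.map s) := (DerivedCategory.isIso_Q_map_iff_quasiIso _ s).2 hs
  let eI : DerivedCategory.Q.obj I ≅ A := (asIso (DerivedCategory.Q.map s)).symm ≪≫ DerivedCategory.Q.objObjPreimageIso A
  haveI := isIso_unitD p I
  haveI : ((pushC p).obj I).IsKInjective := FlatPull.isKInjective_pushforward p I
  obtain ⟨a⟩ := nonempty_RGamma_kInj ((pushC p).obj I)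
  obtain ⟨b⟩ := nonempty_RGamma_kInj I
  let d : (gammaC X).obj ((pushC p).obj I) ≅ (gammaC Z).obj I :=
    Hom.isoOfComponents (fun _ => Iso.refl _) (fun _ _ _ => by simp; rfl)
  exact ⟨(DCoh.RΓ X).mapIso ((DCoh.Rpush p).mapIso eI.symm ≪≫ (asIso ((unitD p).app I)).symm) ≪≫ a ≪≫
    DerivedCategory.Q.mapIso d ≪≫ b.symm ≪≫ (DCoh.RΓ Z).mapIso eI⟩

/-- `RΓ(X, Rp_*(Q B ⊗^L P) ⊗^L E)` on the total space. -/
theorem nonempty_RGamma_proj (p : Z ⟶ X) [Flat p] [DCoh.HasRpush p] [DCoh.HasRΓ X] [DCoh.HasRΓ Z]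
    (B P P' : CochainComplex Z.Modules ℤ) (hB : IsKFlatFor (shT Z) B) (hP' : IsKFlatFor (shT Z) P')
    (eP : DerivedCategory.Q.obj P' ≅ DerivedCategory.Q.obj P) [DCoh.HasLTensorCx P]
    (E E' : CochainComplex X.Modules ℤ) (hE' : IsKFlatFor (shT X) E') (eE : DerivedCategory.Q.obj E' ≅ DerivedCategory.Q.obj E)
    [DCoh.HasLTensorCx E] (hE : DCoh.IsPerfect (DerivedCategory.Q.obj E)) :
    Nonempty ((DCoh.RΓ X).obj ((DCoh.LTensorCx E).obj ((DCoh.Rpush p).obj
        ((DCoh.LTensorCx P).obj (DerivedCategory.Q.obj B)))) ≅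
      (DCoh.RΓ Z).obj (DerivedCategory.Q.obj (tot (shT Z) (tot (shT Z) B P') ((pullC p).obj E')))) := by
  haveI := hasLpull p
  haveI := LTensorSheaf.hasLTensorCx P'
  haveI := LTensorSheaf.hasLTensorCx E'
  haveI := LTensorSheaf.hasLTensorCx ((pullC p).obj E')
  obtain ⟨cE⟩ := TensorCongr.nonempty_congr (E := E') (E' := E) eE
  obtain ⟨cP⟩ := TensorCongr.nonempty_congr (E := P') (E' := P) eP
  obtain ⟨π⟩ := nonempty_projection p E' hE' (fun x => by
      obtain ⟨V, hx, hF⟩ := hE x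
      exact ⟨V, hx, fun F ⟨e⟩ => hF F ⟨e ≪≫ eE⟩⟩) ((DCoh.LTensorCx P).obj (DerivedCategory.Q.obj B))
  obtain ⟨g⟩ := nonempty_RGamma_Rpush p
    ((DCoh.LTensorCx ((pullC p).obj E')).obj ((DCoh.LTensorCx P).obj (DerivedCategory.Q.obj B)))
  exact ⟨(DCoh.RΓ X).mapIso ((cE.app _).symm ≪≫ π) ≪≫ g ≪≫
    (DCoh.RΓ Z).mapIso ((DCoh.LTensorCx ((pullC p).obj E')).mapIso ((cP.app _).symm ≪≫
      LTensorSheaf.ltensorCxIso' hP' B) ≪≫
      LTensorSheaf.ltensorCxIso' (PullTot.isKFlatFor_pullback p hE') _)⟩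

/-- Exchanging the outer factors. -/
theorem nonempty_swap (A B C : CochainComplex Z.Modules ℤ) :
    Nonempty (tot (shT Z) (tot (shT Z) A B) C ≅ tot (shT Z) (tot (shT Z) C B) A) := by
  let t := Dual22Lib.ShSymm.symm A B
  let i : tot (shT Z) C (tot (shT Z) A B) ≅ tot (shT Z) C (tot (shT Z) B A) :=
    ((shT Z).map₂CochainComplex.obj C).mapIso t
  exact ⟨Dual22Lib.ShSymm.symm (tot (shT Z) A B) C ≪≫ i ≪≫ (TensorAssoc.totAssocIso C B A).symm⟩

end Groth.Agent.FMK16
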